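import Groth.Agent.AbVar.K523.RankCard
import Groth.Agent.AbVar.K521.BcTate
import Groth.Agent.AbVar.K521.GeomPts
import Groth.Agent.Etcore.AbTors
import Groth.Agent.Etcore.DimBaseChange
import Groth.Agent.Grpsch.MulFinFlat
import Groth.Prelude.Def_SGA7a

/-!
# The rank of the Tate module of an abelian variety over any field

`card_pts`: `#A[n](Ω) = n^(2g)` for `n` invertible; `exists_pow_eq`: `A(Ω)` is divisible;
`finrank_tate`: `T_l A` has rank `2g`. Here `Ω` is any algebraically closed extension of the ground field.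
-/

set_option autoImplicit false
universe u
open CategoryTheory Limits MonoidalCategory CartesianMonoidalCategory MonObj AlgebraicGeometry AbDual

namespace K523.RankTate

open Groth.Agent

variable {k : Type u} [Field k] (Ω : Type u) [Field Ω] [Algebra k Ω]
  (X : Over (Spec (CommRingCat.of k))) [GrpObj X] [IsProper X.hom] [GeometricallyIntegral X.hom]

theorem card_pts [IsSepClosed Ω] (g : ℕ) (hg : topologicalKrullDim X.left = g) (n : ℕ) (hn : (n : k) ≠ 0) :
    Nat.card {x : SGA7.pt (K := k) Ω ⟶ X // x ^ n = 1} = n ^ (2 * g) := by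
  let f := Spec.map (CommRingCat.ofHom (algebraMap k Ω))
  let XΩ : Over (Spec (CommRingCat.of Ω)) := (Over.pullback f).obj X
  have i1 : IsProper XΩ.hom := inferInstanceAs (IsProper (pullback.snd X.hom f))
  have i2 : GeometricallyIntegral XΩ.hom := inferInstanceAs (GeometricallyIntegral (pullback.snd X.hom f))
  let i3 : GrpObj XΩ := Functor.grpObjObj
  have hd : topologicalKrullDim XΩ.left = g :=
    (Etcore.DimBaseChange.topologicalKrullDim_eq (Field.toIsField k) (Field.toIsField Ω) X.hom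
      (pullback.snd X.hom _) (pullback.fst X.hom _) _ (IsPullback.of_hasPullback _ _)).trans hg
  have hn' : (n : Ω) ≠ 0 := fun h => hn ((algebraMap k Ω).injective (by rw [map_natCast, map_zero, h]))
  rw [← Etcore.AbTors.card_torsion XΩ g hd n hn']
  refine Nat.card_congr ((K521.BcTate.ptsEquiv f X).toEquiv.subtypeEquiv fun x => ?_)
  change x ^ n = 1 ↔ (K521.BcTate.ptsEquiv f X x) ^ n = 1
  rw [← map_pow, ← map_one (K521.BcTate.ptsEquiv f X), (K521.BcTate.ptsEquiv f X).injective.eq_iff]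

theorem exists_pow_eq [IsAlgClosed Ω] (n : ℕ) (hn : 1 ≤ n) (y : SGA7.pt (K := k) Ω ⟶ X) :
    ∃ x : SGA7.pt (K := k) Ω ⟶ X, x ^ n = y := by
  have h := Grpsch.MulFinFlat.isFinite_flat_surjective_zpow k X (n : ℤ) (by exact_mod_cast (by omega : n ≠ 0))
  rw [zpow_natCast] at h
  obtain ⟨h1, h2, h3⟩ := h
  obtain ⟨x, hx⟩ := K521.GeomPts.exists_lift_over ((𝟙 X) ^ n) (Spec.map (CommRingCat.ofHom (algebraMap k Ω))) y
  exact ⟨x, by rw [← hx, MonObj.comp_pow, Category.comp_id]⟩

theorem finrank_tate [IsAlgClosed Ω] [IsCommMonObj X] (l : ℕ) [Fact l.Prime] (hl : (l : k) ≠ 0)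
    (g : ℕ) (hg : topologicalKrullDim X.left = g)
    [Module.Free ℤ_[l] (TateMod X l (SGA7.pt (K := k) Ω))] [Module.Finite ℤ_[l] (TateMod X l (SGA7.pt (K := k) Ω))] :
    Module.finrank ℤ_[l] (TateMod X l (SGA7.pt (K := k) Ω)) = 2 * g :=
  RankCard.finrank_eq_of_card l (SGA7.pt (K := k) Ω) (exists_pow_eq Ω X l (Fact.out : l.Prime).one_le) (2 * g)
    (card_pts Ω X g hg l hl)

end K523.RankTate
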