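import Groth.Agent.AbVar.K523.IndexGeo
import Groth.Agent.AbVar.K516.DegForm
import Groth.Agent.S7858
import Groth.Agent.S17503
import Groth.Agent.S17508

/-!
# Powers of an ample line bundle with Euler characteristic one

`X` an abelian variety of dimension `g` over any field, `L` ample.

* `chi_pos`: `0 < χ(L)`; `ample_idx`: `L` has index `0`.
* `intNum_eq`: `g! χ(L) = (L^g)`.
* `finrank_pow`: if `χ(L) = 1` then `h^0(L^m) = m^g`.
* `finrank_inv_pow`, `van_inv_pow`: if `χ(L) = 1` and `M = L⁻¹` then `h^g(M^m) = m^g` and `H^i(M^m) = 0`, `i < g`.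
-/

set_option autoImplicit false
universe u

open CategoryTheory CategoryTheory.Limits MonoidalCategory CartesianMonoidalCategory AlgebraicGeometry
open scoped MonObj
open Groth.Agent Groth.Agent.Grpsch.PicGrp K524.Index K524.Chi K524.Kun

namespace K523.ThetaPow

variable {k : Type u} [Field k] {X : Over (Spec (CommRingCat.of k))} [GrpObj X] [IsProper X.hom]
  [GeometricallyIntegral X.hom]

/-- `g! χ(L) = (L^g)`. -/
theorem intNum_eq (g : ℕ) (hg : topologicalKrullDim X.left = g) (L M : X.left.Modules) (hL : PicF.IsInvertible L)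
    (hLM : Nonempty (CohB1.tensorMod L M ≅ Coh.structureModule X.left)) :
    ((Nat.factorial g : ℕ) : ℤ) * chi (mk L hL) =
      @FGA.intNum k _ X.left ⟨X.hom⟩ g g (fun _ : Fin g => M) (Coh.structureModule X.left) := by
  rw [chi_mk]
  exact S7858.result k X g hg L M hL hLM

/-- The Euler characteristic of an ample module is positive. -/
theorem chi_pos (g : ℕ) (hg : topologicalKrullDim X.left = g) (L : X.left.Modules) (hL : CohB1.IsAmple L) :
    0 < chi (mk L hL.1) := by
  let _ : X.left.Over (Spec (CommRingCat.of k)) := ⟨X.hom⟩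
  have hp : IsProper (X.left ↘ (Spec (CommRingCat.of k))) := inferInstanceAs (IsProper X.hom)
  have h1 := K516.DegForm.JO_pos k X.left g hg.le hg (fun _ => L) (fun _ => hL)
  rw [K516.DegForm.JO_mk k X.left g hg.le (fun _ => L) (fun _ => hL.1),
    ← intNum_eq g hg L (dual L) hL.1 ⟨@asIso _ _ _ _ (ev L) (isIso_ev hL.1)⟩] at h1
  exact (mul_pos_iff_of_pos_left (by positivity)).1 h1

theorem idx_pow (L : X.left.Modules) (hL : PicF.IsInvertible L) {i : ℕ} (hi : HasIdx (mk L hL) i) (m : ℕ) (hm : 1 ≤ m) :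
    HasIdx (mk L hL ^ m) i := by
  rw [← mk_tensorPow hL, hasIdx_mk]
  rw [hasIdx_mk] at hi
  exact S17503.result k X L hL i hi.1 hi.2 m hm

/-- An ample module on an abelian variety has index `0`. -/
theorem ample_idx (g : ℕ) (hg : topologicalKrullDim X.left = g) (L : X.left.Modules) (hL : CohB1.IsAmple L) :
    HasIdx (mk L hL.1) 0 := by
  obtain ⟨i, hi⟩ := K523.IndexGeo.exists_idx g hg (mk L hL.1) (chi_pos g hg L hL).ne'
  obtain ⟨N, hN⟩ := K523.IndexGeo.serre 1 L hL
  have h2 := hN (N + 1) N.le_succ i (by rw [one_mul]; exact idx_pow L hL.1 hi (N + 1) (Nat.le_add_left 1 N))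
  rwa [h2] at hi

theorem chi_inv (g : ℕ) (hg : topologicalKrullDim X.left = g) (L M : X.left.Modules) (hL : PicF.IsInvertible L)
    (hM : PicF.IsInvertible M) (e : CohB1.tensorMod L M ≅ Coh.structureModule X.left) :
    chi (mk M hM) = (-1) ^ g * chi (mk L hL) := by
  have h1 := K450.RRChi.chi_inv k X g hg L M hL hM (by
    rw [← Fga.PicMon.mc_tensor, ← Fga.PicMon.mc_one]
    exact (Fga.PicMon.mc_eq_iff _ _).mpr ⟨e⟩)
  rw [K450.RRChi.chi_mc k X g hg, K450.RRChi.chi_mc k X g hg] at h1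
  rw [chi_mk, chi_mk]
  exact h1

theorem finrank_pow (g : ℕ) (hg : topologicalKrullDim X.left = g) (L : X.left.Modules) (hL : CohB1.IsAmple L)
    (h1 : chi (mk L hL.1) = 1) (m : ℕ) (hm : 1 ≤ m) :
    @Module.finrank k (Coh.HH X.left (CohB1.tensorPow L m) 0) _ _
      (@Coh.moduleOver k _ X.left ⟨X.hom⟩ (CohB1.tensorPow L m) 0) = m ^ g := by
  have h2 := idx_pow L hL.1 (ample_idx g hg L hL) m hm
  rw [← mk_tensorPow hL.1] at h2
  have h3 := K524.Bc.chi_eq (Fdesc.LocGen.isInvertible_tensorPow hL.1 m) h2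
  rw [mk_tensorPow hL.1, K523.IndexGeo.chi_pow g hg, h1, pow_zero, one_mul, mul_one] at h3
  exact_mod_cast h3.symm

theorem idx_inv_pow (g : ℕ) (hg : topologicalKrullDim X.left = g) (L M : X.left.Modules) (hL : CohB1.IsAmple L)
    (hM : PicF.IsInvertible M) (e : CohB1.tensorMod L M ≅ Coh.structureModule X.left) (m : ℕ) (hm : 1 ≤ m) :
    HasIdx (mk M hM ^ m) g := by
  have h1 := ample_idx g hg L hL
  rw [hasIdx_mk] at h1
  obtain ⟨-, h2, h3⟩ := S17508.result k X g hg L M hL.1 ⟨e⟩ 0 h1.1 h1.2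
  exact idx_pow M hM ((hasIdx_mk hM g).2 ⟨h2, h3⟩) m hm

theorem finrank_inv_pow (g : ℕ) (hg : topologicalKrullDim X.left = g) (L M : X.left.Modules) (hL : CohB1.IsAmple L)
    (hM : PicF.IsInvertible M) (e : CohB1.tensorMod L M ≅ Coh.structureModule X.left)
    (h1 : chi (mk L hL.1) = 1) (m : ℕ) (hm : 1 ≤ m) :
    @Module.finrank k (Coh.HH X.left (CohB1.tensorPow M m) g) _ _
      (@Coh.moduleOver k _ X.left ⟨X.hom⟩ (CohB1.tensorPow M m) g) = m ^ g := by
  have h2 := idx_inv_pow g hg L M hL hM e m hm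
  rw [← mk_tensorPow hM] at h2
  have h3 := K524.Bc.chi_eq (Fdesc.LocGen.isInvertible_tensorPow hM m) h2
  rw [mk_tensorPow hM, K523.IndexGeo.chi_pow g hg, chi_inv g hg L M hL.1 hM e, h1, mul_one, mul_comm] at h3
  have h4 := mul_left_cancel₀ (pow_ne_zero g (by norm_num : (-1 : ℤ) ≠ 0)) h3
  exact_mod_cast h4.symm

theorem van_inv_pow (g : ℕ) (hg : topologicalKrullDim X.left = g) (L M : X.left.Modules) (hL : CohB1.IsAmple L)
    (hM : PicF.IsInvertible M) (e : CohB1.tensorMod L M ≅ Coh.structureModule X.left) (m : ℕ) (hm : 1 ≤ m) (i : ℕ)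
    (hi : i < g) : Subsingleton (Coh.HH X.left (CohB1.tensorPow M m) i) := by
  have h2 := idx_inv_pow g hg L M hL hM e m hm
  rw [← mk_tensorPow hM, hasIdx_mk] at h2
  exact h2.1 i hi.ne

end K523.ThetaPow
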