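import Mathlib.Algebra.Polynomial.Roots
import Mathlib.Algebra.Order.Archimedean.Basic
import Mathlib.Tactic.FieldSimp
import Mathlib.Tactic.Ring
import Mathlib.Tactic.Linarith

/-!
# Homogeneity of a two variable Hilbert function
-/

set_option autoImplicit false

open Polynomial

namespace K523.HilbHom

/-- Two polynomials agreeing at all large natural numbers are equal. -/
theorem eq_of_eval_nat {p q : ℚ[X]} (N : ℕ) (h : ∀ n : ℕ, N ≤ n → p.eval (n : ℚ) = q.eval (n : ℚ)) : p = q := by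
  refine Polynomial.eq_of_infinite_eval_eq p q ?_
  refine Set.Infinite.mono (s := Set.range (fun n : ℕ => ((n + N : ℕ) : ℚ))) ?_ ?_
  · rintro x ⟨n, rfl⟩
    exact h _ (Nat.le_add_left N n)
  · refine Set.infinite_range_of_injective fun a b hab => ?_
    have := Nat.cast_injective (R := ℚ) hab
    omega

/-- The homogeneous form. -/
theorem exists_poly (F : ℕ → ℤ → ℚ) (g : ℕ)
    (hpoly : ∀ m : ℕ, 0 < m → ∀ n₀ : ℤ, ∃ q : ℚ[X], q.natDegree ≤ g ∧ ∀ n : ℕ, F m (n₀ + n) = q.eval (n : ℚ))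
    (hhom : ∀ t : ℕ, 0 < t → ∀ n : ℤ, F t (t * n) = (t : ℚ) ^ g * F 1 n) :
    ∃ Ψ : ℚ[X], Ψ.natDegree ≤ g ∧ ∀ m : ℕ, 0 < m → ∀ n : ℤ, F m n = (m : ℚ) ^ g * Ψ.eval ((n : ℚ) / m) := by
  obtain ⟨Ψ, hΨ, hΨ'⟩ := hpoly 1 one_pos 0
  refine ⟨Ψ, hΨ, fun m hm n => ?_⟩
  have hm' : (m : ℚ) ≠ 0 := by positivity
  -- the polynomial through all `n`
  have key : ∀ m : ℕ, 0 < m → ∃ q : ℚ[X], ∀ n : ℤ, F m n = q.eval (n : ℚ) := by
    intro m hm
    obtain ⟨q, -, hq⟩ := hpoly m hm 0
    refine ⟨q, fun n => ?_⟩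
    obtain ⟨n₀, rfl | rfl⟩ := Int.eq_nat_or_neg n
    · have := hq n₀
      rw [zero_add] at this
      rw [this]; simp
    · obtain ⟨r, -, hr⟩ := hpoly m hm (-(n₀ : ℤ))
      have h1 : r = q.comp (X - C (n₀ : ℚ)) := by
        refine eq_of_eval_nat n₀ fun n hn => ?_
        rw [← hr n, eval_comp]
        have h2 := hq (n - n₀)
        rw [zero_add] at h2
        simp only [eval_sub, eval_X, eval_C]
        rw [Nat.cast_sub hn] at h2
        push_cast [Nat.cast_sub hn] at h2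
        rw [← h2]
        congr 1
        ring
      have h3 := hr 0
      rw [h1, eval_comp] at h3
      simp only [eval_sub, eval_X, eval_C, Nat.cast_zero, add_zero, zero_sub] at h3
      rw [h3]
      push_cast
      rfl
  obtain ⟨q, hq⟩ := key m hm
  obtain ⟨q1, hq1⟩ := key 1 one_pos
  have h1 : Ψ = q1 := by
    refine eq_of_eval_nat 0 fun n _ => ?_
    have h2 := hΨ' n
    rw [zero_add] at h2
    rw [← h2, hq1]
    push_cast
    rfl
  have h2 : q.comp (C (m : ℚ) * X) = C ((m : ℚ) ^ g) * Ψ := by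
    refine eq_of_eval_nat 0 fun n _ => ?_
    have h3 := hhom m hm n
    rw [hq, hq1, ← h1] at h3
    simp only [eval_comp, eval_mul, eval_C, eval_X]
    push_cast at h3
    exact h3
  have h4 := congrArg (fun p => p.eval ((n : ℚ) / m)) h2
  simp only [eval_comp, eval_mul, eval_C, eval_X] at h4
  rw [mul_div_cancel₀ _ hm'] at h4
  rw [hq, h4]

end K523.HilbHom
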