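import Mathlib.Algebra.Polynomial.Roots

/-!
# Root multiplicities under affine changes of the variable
-/

set_option autoImplicit false

open Polynomial

namespace K523.RootAff

variable {F : Type*} [Field F] (Ψ : F[X]) (a d u : F)

/-- `u Ψ(a + d X)`. -/
noncomputable def aff : F[X] := C u * Ψ.comp (C a + C d * X)

theorem eval_aff (s : F) : (aff Ψ a d u).eval s = u * Ψ.eval (a + d * s) := by
  simp [aff, eval_comp]

theorem aff_ne_zero (hd : d ≠ 0) (hu : u ≠ 0) (hΨ : Ψ ≠ 0) : aff Ψ a d u ≠ 0 := by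
  intro h
  have h1 : Ψ.comp (C a + C d * X) = 0 := by
    rcases mul_eq_zero.1 h with h2 | h2
    · exact absurd (C_eq_zero.1 h2) hu
    · exact h2
  have h3 : (Ψ.comp (C a + C d * X)).comp (C (-a / d) + C d⁻¹ * X) = Ψ := by
    rw [comp_assoc]
    have : (C a + C d * X).comp (C (-a / d) + C d⁻¹ * X) = X := by
      simp only [add_comp, C_comp, mul_comp, X_comp]
      rw [mul_add, ← mul_assoc, ← C_mul, ← C_mul, ← add_assoc, ← C_add, mul_inv_cancel₀ hd, mul_div_cancel₀ _ hd]
      simp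
    rw [this, comp_X]
  rw [h1, zero_comp] at h3
  exact hΨ h3.symm

theorem rootMultiplicity_aff (hd : d ≠ 0) (hu : u ≠ 0) (hΨ : Ψ ≠ 0) (s : F) :
    (aff Ψ a d u).rootMultiplicity s = Ψ.rootMultiplicity (a + d * s) := by
  obtain ⟨q, hq, hqd⟩ := exists_eq_pow_rootMultiplicity_mul_and_not_dvd Ψ hΨ (a + d * s)
  set μ := Ψ.rootMultiplicity (a + d * s) with hμ
  have hq0 : q.eval (a + d * s) ≠ 0 := fun h => hqd (dvd_iff_isRoot.2 h)
  have h1 : aff Ψ a d u = (X - C s) ^ μ * (C (u * d ^ μ) * q.comp (C a + C d * X)) := by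
    have h2 : (X - C (a + d * s)).comp (C a + C d * X) = C d * (X - C s) := by
      rw [sub_comp, X_comp, C_comp, C_add, C_mul]
      ring
    rw [aff, hq, mul_comp, pow_comp, h2, mul_pow, C_mul, C_pow]
    ring
  have hne : (X - C s) ^ μ * (C (u * d ^ μ) * q.comp (C a + C d * X)) ≠ 0 := h1 ▸ aff_ne_zero Ψ a d u hd hu hΨ
  rw [h1, rootMultiplicity_mul hne, rootMultiplicity_X_sub_C_pow, rootMultiplicity_eq_zero, add_zero]
  rw [IsRoot.def, eval_mul, eval_C, eval_comp]
  simp only [eval_add, eval_C, eval_mul, eval_X]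
  exact mul_ne_zero (mul_ne_zero hu (pow_ne_zero _ hd)) hq0

end K523.RootAff
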