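import Groth.Agent.AbVar.K523.RootCount
import Groth.Agent.AbVar.K523.RootAff
import Groth.Agent.AbVar.K523.HilbHom
import Mathlib.Algebra.Algebra.Rat
import Mathlib.Topology.Order.Bornology

/-!
# The index of a line bundle as a number of real roots: formal part
-/

set_option autoImplicit false

open Polynomial

namespace K523.IndexCount

variable {P : Type*} [CommGroup P]

/-- The properties of the index which are used. -/
structure Data (Ix : P → ℕ → Prop) (A : P → Prop) (χ : P → ℤ) (g : ℕ) : Prop where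
  uniq : ∀ c i j, Ix c i → Ix c j → i = j
  exist : ∀ c, χ c ≠ 0 → ∃ i, Ix c i
  ne : ∀ c i, Ix c i → χ c ≠ 0
  pow : ∀ c i, Ix c i → ∀ m, 0 < m → Ix (c ^ m) i
  inv : ∀ c i, Ix c i → i ≤ g ∧ Ix c⁻¹ (g - i)
  apow : ∀ h, A h → ∀ n, 0 < n → A (h ^ n)
  serre : ∀ c h, A h → ∃ N : ℕ, ∀ n, N ≤ n → ∀ i, Ix (c * h ^ n) i → i = 0
  snapper : ∀ c h, ∃ q : ℚ[X], q.natDegree ≤ g ∧ ∀ n : ℕ, (χ (c * h ^ n) : ℚ) = q.eval (n : ℚ)
  hom : ∀ (c : P) (t : ℕ), 0 < t → χ (c ^ t) = (t : ℤ) ^ g * χ c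
  key9 : ∀ c h, A h → ∀ i i', Ix c i → Ix (c * h) i' → i ≠ i' → ∀ Φ : ℚ[X],
    (∀ n : ℕ, Φ.eval (n : ℚ) = χ (c * h ^ n)) → ∃ t : ℝ, 0 ≤ t ∧ t ≤ 1 ∧ (Φ.map (algebraMap ℚ ℝ)).eval t = 0
  key10 : ∀ c h, A h → ∀ i i', Ix c i → Ix (c * h) i' → ∀ Φ : ℚ[X],
    (∀ n : ℕ, Φ.eval (n : ℚ) = χ (c * h ^ n)) → ∀ τ : ℝ, 0 ≤ τ → τ < 1 → (Φ.map (algebraMap ℚ ℝ)).eval τ = 0 →
    (∀ t : ℝ, 0 ≤ t → t ≤ 1 → (Φ.map (algebraMap ℚ ℝ)).eval t = 0 → t = τ) →
    i ≤ i' + (Φ.map (algebraMap ℚ ℝ)).rootMultiplicity τ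

variable {Ix : P → ℕ → Prop} {A : P → Prop} {χ : P → ℤ} {g : ℕ} (D : Data Ix A χ g)

include D in
theorem cmp {x y : P} {i j m n : ℕ} (hx : Ix x i) (hy : Ix y j) (hm : 0 < m) (hn : 0 < n) (h : x ^ m = y ^ n) :
    i = j :=
  D.uniq _ _ _ (D.pow x i hx m hm) (h ▸ D.pow y j hy n hn)

include D in
/-- The homogeneous polynomial. -/
theorem exists_poly (c h : P) :
    ∃ Ψ : ℚ[X], Ψ.natDegree ≤ g ∧ ∀ m : ℕ, 0 < m → ∀ n : ℤ,
      (χ (c ^ m * h ^ n) : ℚ) = (m : ℚ) ^ g * Ψ.eval ((n : ℚ) / m) := by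
  refine HilbHom.exists_poly (fun m n => (χ (c ^ m * h ^ n) : ℚ)) g ?_ ?_
  · intro m _ n₀
    obtain ⟨q, hq, hq'⟩ := D.snapper (c ^ m * h ^ n₀) h
    refine ⟨q, hq, fun n => ?_⟩
    rw [← hq' n, zpow_add, zpow_natCast, mul_assoc]
  · intro t ht n
    have h1 := D.hom (c * h ^ n) t ht
    have h2 : (c * h ^ n) ^ t = c ^ t * h ^ ((t : ℤ) * n) := by
      rw [mul_pow, mul_comm (t : ℤ) n, zpow_mul, zpow_natCast]
    rw [h2] at h1
    rw [pow_one, h1]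
    push_cast
    rfl

theorem ev (Φ : ℚ[X]) (a : ℚ) : (Φ.map (algebraMap ℚ ℝ)).eval (a : ℝ) = ((Φ.eval a : ℚ) : ℝ) := by
  rw [Polynomial.eval_map, ← eq_ratCast (algebraMap ℚ ℝ), Polynomial.eval₂_at_apply, eq_ratCast]

open Classical in
/-- The index at a rational number. -/
noncomputable def idx (Ix : P → ℕ → Prop) (c h : P) (a : ℚ) : ℕ :=
  if hh : ∃ i, Ix (c ^ a.den * h ^ a.num) i then hh.choose else 0

section

variable {c h : P} {Ψ : ℚ[X]}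
  (hΨ : ∀ m : ℕ, 0 < m → ∀ n : ℤ, (χ (c ^ m * h ^ n) : ℚ) = (m : ℚ) ^ g * Ψ.eval ((n : ℚ) / m))

include hΨ in
theorem chi_ne {m : ℕ} (hm : 0 < m) (n : ℤ) (h0 : Ψ.eval ((n : ℚ) / m) ≠ 0) : χ (c ^ m * h ^ n) ≠ 0 := by
  have h1 := hΨ m hm n
  intro h2
  rw [h2, Int.cast_zero] at h1
  have hm' : (m : ℚ) ≠ 0 := by positivity
  rcases mul_eq_zero.1 h1.symm with h3 | h3
  · exact pow_ne_zero _ hm' h3
  · exact h0 h3

include D hΨ in
theorem idx_spec {m : ℕ} (hm : 0 < m) (n : ℤ) (h0 : Ψ.eval ((n : ℚ) / m) ≠ 0) :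
    Ix (c ^ m * h ^ n) (idx Ix c h ((n : ℚ) / m)) := by
  obtain ⟨j, hj⟩ := D.exist _ (chi_ne hΨ hm n h0)
  set a : ℚ := (n : ℚ) / m with ha
  have h1 : Ψ.eval ((a.num : ℚ) / a.den) ≠ 0 := by rwa [Rat.num_div_den]
  have h2 : ∃ i, Ix (c ^ a.den * h ^ a.num) i := D.exist _ (chi_ne hΨ a.den_pos a.num h1)
  have h3 : Ix (c ^ a.den * h ^ a.num) (idx Ix c h a) := by
    rw [idx, dif_pos h2]
    exact h2.choose_spec
  have h4 : a.num * (m : ℤ) = n * (a.den : ℤ) := by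
    have h5 : a * m = n := by rw [ha, div_mul_cancel₀ _ (by positivity)]
    have h6 : (a.num : ℚ) = a * a.den := (Rat.mul_den_eq_num a).symm
    have : ((a.num * (m : ℤ) : ℤ) : ℚ) = ((n * (a.den : ℤ) : ℤ) : ℚ) := by
      push_cast
      rw [h6, ← h5]
      ring
    exact_mod_cast this
  have h5 : (c ^ a.den * h ^ a.num) ^ m = (c ^ m * h ^ n) ^ a.den := by
    rw [mul_pow, mul_pow, ← pow_mul, ← pow_mul, mul_comm a.den m, ← zpow_natCast (h ^ a.num), ← zpow_mul,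
      ← zpow_natCast (h ^ n), ← zpow_mul, h4]
  have h6 := cmp D h3 hj hm a.den_pos h5
  rw [h6]
  exact hj

include hΨ in
theorem eval_aff (m : ℕ) (hm : 0 < m) (n₁ : ℤ) (d : ℕ) (n : ℕ) :
    (RootAff.aff Ψ ((n₁ : ℚ) / m) ((d : ℚ) / m) ((m : ℚ) ^ g)).eval (n : ℚ) =
      χ (c ^ m * h ^ n₁ * (h ^ d) ^ n) := by
  have h1 := hΨ m hm (n₁ + d * n)
  have h2 : c ^ m * h ^ n₁ * (h ^ d) ^ n = c ^ m * h ^ (n₁ + (d : ℤ) * n) := by
    rw [zpow_add, zpow_mul, zpow_natCast, zpow_natCast, mul_assoc]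
  rw [RootAff.eval_aff, h2, h1]
  congr 2
  push_cast
  ring

theorem eval_map_aff (a d u : ℚ) (t : ℝ) :
    ((RootAff.aff Ψ a d u).map (algebraMap ℚ ℝ)).eval t =
      (u : ℝ) * (Ψ.map (algebraMap ℚ ℝ)).eval ((a : ℝ) + d * t) := by
  rw [RootAff.aff, Polynomial.map_mul, Polynomial.map_comp, eval_mul, eval_comp]
  simp

theorem map_aff (a d u : ℚ) :
    (RootAff.aff Ψ a d u).map (algebraMap ℚ ℝ) = RootAff.aff (Ψ.map (algebraMap ℚ ℝ)) (a : ℝ) d u := by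
  rw [RootAff.aff, Polynomial.map_mul, Polynomial.map_comp, RootAff.aff]
  simp

theorem exists_common (a b : ℚ) (hab : a < b) :
    ∃ (m : ℕ) (n₁ : ℤ) (d : ℕ), 0 < m ∧ 0 < d ∧ a = (n₁ : ℚ) / m ∧ b = ((n₁ + d : ℤ) : ℚ) / m := by
  have hm : 0 < a.den * b.den := Nat.mul_pos a.den_pos b.den_pos
  have ha : a = ((a.num * b.den : ℤ) : ℚ) / (a.den * b.den : ℕ) := by
    conv_lhs => rw [← Rat.num_div_den a]
    have h1 : (a.den : ℚ) ≠ 0 := by exact_mod_cast a.den_pos.ne'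
    have h2 : (b.den : ℚ) ≠ 0 := by exact_mod_cast b.den_pos.ne'
    push_cast
    field_simp
  have hb : b = ((b.num * a.den : ℤ) : ℚ) / (a.den * b.den : ℕ) := by
    conv_lhs => rw [← Rat.num_div_den b]
    have h1 : (a.den : ℚ) ≠ 0 := by exact_mod_cast a.den_pos.ne'
    have h2 : (b.den : ℚ) ≠ 0 := by exact_mod_cast b.den_pos.ne'
    push_cast
    field_simp
  have hlt : a.num * b.den < b.num * a.den := by
    have h1 : ((a.num * b.den : ℤ) : ℚ) < ((b.num * a.den : ℤ) : ℚ) := by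
      have h2 : (0 : ℚ) < ((a.den * b.den : ℕ) : ℚ) := by exact_mod_cast hm
      have h3 : ((a.num * b.den : ℤ) : ℚ) / (a.den * b.den : ℕ) < ((b.num * a.den : ℤ) : ℚ) / (a.den * b.den : ℕ) :=
        ha ▸ hb ▸ hab
      rwa [div_lt_div_iff_of_pos_right h2] at h3
    exact_mod_cast h1
  refine ⟨a.den * b.den, a.num * b.den, (b.num * a.den - a.num * b.den).toNat, hm, by omega, ha, ?_⟩
  rw [Int.toNat_of_nonneg (by omega), add_sub_cancel]
  exact hb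

include D hΨ in
theorem hA (hh : A h) (a b : ℚ) (hab : a < b) (ha : (Ψ.map (algebraMap ℚ ℝ)).eval (a : ℝ) ≠ 0)
    (hb : (Ψ.map (algebraMap ℚ ℝ)).eval (b : ℝ) ≠ 0)
    (hroot : ∀ t : ℝ, (a : ℝ) ≤ t → t ≤ b → (Ψ.map (algebraMap ℚ ℝ)).eval t ≠ 0) :
    idx Ix c h a = idx Ix c h b := by
  by_contra hne
  obtain ⟨m, n₁, d, hm, hd, rfl, rfl⟩ := exists_common a b hab
  have hm0 : (0 : ℝ) < m := by exact_mod_cast hm
  have hd0 : (0 : ℝ) < d := by exact_mod_cast hd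
  have ha' : Ψ.eval ((n₁ : ℚ) / m) ≠ 0 := by
    intro h0
    apply ha
    rw [ev, h0, Rat.cast_zero]
  have hb' : Ψ.eval (((n₁ + d : ℤ) : ℚ) / m) ≠ 0 := by
    intro h0
    apply hb
    rw [ev, h0, Rat.cast_zero]
  have h1 := idx_spec D hΨ hm n₁ ha'
  have h2 := idx_spec D hΨ hm (n₁ + d) hb'
  have h3 : c ^ m * h ^ (n₁ + (d : ℤ)) = c ^ m * h ^ n₁ * h ^ d := by
    rw [zpow_add, zpow_natCast, mul_assoc]
  rw [h3] at h2
  obtain ⟨t, ht0, ht1, ht⟩ := D.key9 _ _ (D.apow h hh d hd) _ _ h1 h2 hne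
    (RootAff.aff Ψ ((n₁ : ℚ) / m) ((d : ℚ) / m) ((m : ℚ) ^ g)) (eval_aff hΨ m hm n₁ d)
  rw [eval_map_aff] at ht
  refine hroot _ ?_ ?_ ((mul_eq_zero.1 ht).resolve_left (by push_cast; positivity))
  · push_cast
    have : 0 ≤ (d : ℝ) / m * t := by positivity
    linarith
  · push_cast
    have : (d : ℝ) / m * t ≤ (d : ℝ) / m := mul_le_of_le_one_right (by positivity) ht1
    rw [add_div]
    linarith

include D hΨ in
theorem hB (hh : A h) (hΨ0 : Ψ ≠ 0) (a b : ℚ) (hab : a < b) (ha : (Ψ.map (algebraMap ℚ ℝ)).eval (a : ℝ) ≠ 0)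
    (hb : (Ψ.map (algebraMap ℚ ℝ)).eval (b : ℝ) ≠ 0) (τ : ℝ) (haτ : (a : ℝ) < τ) (hτb : τ < b)
    (hτ : (Ψ.map (algebraMap ℚ ℝ)).eval τ = 0)
    (huniq : ∀ t : ℝ, (a : ℝ) ≤ t → t ≤ b → (Ψ.map (algebraMap ℚ ℝ)).eval t = 0 → t = τ) :
    idx Ix c h a ≤ idx Ix c h b + (Ψ.map (algebraMap ℚ ℝ)).rootMultiplicity τ := by
  obtain ⟨m, n₁, d, hm, hd, rfl, rfl⟩ := exists_common a b hab
  have hm0 : (0 : ℝ) < m := by exact_mod_cast hm
  have hd0 : (0 : ℝ) < d := by exact_mod_cast hd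
  have ha' : Ψ.eval ((n₁ : ℚ) / m) ≠ 0 := by
    intro h0
    apply ha
    rw [ev, h0, Rat.cast_zero]
  have hb' : Ψ.eval (((n₁ + d : ℤ) : ℚ) / m) ≠ 0 := by
    intro h0
    apply hb
    rw [ev, h0, Rat.cast_zero]
  have h1 := idx_spec D hΨ hm n₁ ha'
  have h2 := idx_spec D hΨ hm (n₁ + d) hb'
  have h3 : c ^ m * h ^ (n₁ + (d : ℤ)) = c ^ m * h ^ n₁ * h ^ d := by
    rw [zpow_add, zpow_natCast, mul_assoc]
  rw [h3] at h2
  set s : ℝ := (τ - (n₁ : ℝ) / m) / ((d : ℝ) / m) with hs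
  have hdm : (0 : ℝ) < (d : ℝ) / m := by positivity
  have hsτ : (n₁ : ℝ) / m + (d : ℝ) / m * s = τ := by
    rw [hs, mul_div_cancel₀ _ hdm.ne']
    ring
  push_cast at haτ hτb huniq
  rw [add_div] at hτb huniq
  have hs0 : 0 ≤ s := div_nonneg (by linarith) hdm.le
  have hs1 : s < 1 := by
    rw [hs, div_lt_one hdm]
    linarith
  have hu : ((((m : ℚ) ^ g : ℚ)) : ℝ) ≠ 0 := by push_cast; positivity
  have key := D.key10 _ _ (D.apow h hh d hd) _ _ h1 h2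
    (RootAff.aff Ψ ((n₁ : ℚ) / m) ((d : ℚ) / m) ((m : ℚ) ^ g)) (eval_aff hΨ m hm n₁ d) s hs0 hs1
    (by
      rw [eval_map_aff]
      push_cast
      rw [hsτ, hτ, mul_zero])
    (by
      intro t ht0 ht1 ht
      rw [eval_map_aff] at ht
      have h4 := (mul_eq_zero.1 ht).resolve_left hu
      push_cast at h4
      have h5 := huniq _ (by have : 0 ≤ (d : ℝ) / m * t := by positivity
                             linarith)
        (by have : (d : ℝ) / m * t ≤ (d : ℝ) / m := mul_le_of_le_one_right (by positivity) ht1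
            linarith) h4
      rw [hs, eq_div_iff hdm.ne']
      linarith)
  rw [map_aff, RootAff.rootMultiplicity_aff _ _ _ _ (by push_cast; exact hdm.ne') hu
    ((Polynomial.map_ne_zero_iff (algebraMap ℚ ℝ).injective).2 hΨ0)] at key
  push_cast at key ⊢
  rw [hsτ] at key
  exact key

end

include D in
theorem main (c h : P) (hh : A h) (i : ℕ) (hi : Ix c i) (Φ : ℚ[X])
    (hΦ : ∀ n : ℕ, Φ.eval (n : ℚ) = χ (c * h ^ n)) :
    Multiset.card (Φ.map (algebraMap ℚ ℝ)).roots = Φ.natDegree ∧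
      i = Multiset.card ((Φ.map (algebraMap ℚ ℝ)).roots.filter (fun t => 0 < t)) := by
  obtain ⟨Ψ, hdeg, hΨ⟩ := exists_poly D c h
  have hΦΨ : Φ = Ψ := by
    refine HilbHom.eq_of_eval_nat 0 fun n _ => ?_
    have h1 := hΨ 1 one_pos n
    rw [pow_one, zpow_natCast, Nat.cast_one, one_pow, one_mul, div_one, Int.cast_natCast] at h1
    rw [hΦ, h1]
  subst hΦΨ
  have hΦ0 : Φ.eval 0 ≠ 0 := by
    have h1 := hΦ 0
    rw [pow_zero, mul_one, Nat.cast_zero] at h1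
    rw [h1]
    exact_mod_cast D.ne c i hi
  have hne : Φ ≠ 0 := by rintro rfl; exact hΦ0 eval_zero
  have hR : Φ.map (algebraMap ℚ ℝ) ≠ 0 := (Polynomial.map_ne_zero_iff (algebraMap ℚ ℝ).injective).2 hne
  -- the index at zero
  have h0 : idx Ix c h 0 = i := by
    have h1 := idx_spec D hΨ one_pos 0 (by simpa using hΦ0)
    rw [pow_one, zpow_zero, mul_one] at h1
    have h2 := D.uniq _ _ _ h1 hi
    simpa using h2
  obtain ⟨B, hB'⟩ := (Φ.map (algebraMap ℚ ℝ)).roots.toFinset.finite_toSet.bddAbove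
  obtain ⟨B', hB''⟩ := (Φ.map (algebraMap ℚ ℝ)).roots.toFinset.finite_toSet.bddBelow
  have hroot1 : ∀ t : ℝ, (Φ.map (algebraMap ℚ ℝ)).eval t = 0 → t ≤ B := fun t ht =>
    hB' (by simpa [hR] using ht)
  have hroot2 : ∀ t : ℝ, (Φ.map (algebraMap ℚ ℝ)).eval t = 0 → B' ≤ t := fun t ht =>
    hB'' (by simpa [hR] using ht)
  obtain ⟨N1, hN1⟩ := D.serre c h hh
  obtain ⟨N2, hN2⟩ := D.serre c⁻¹ h hh
  obtain ⟨n1, hn1⟩ := exists_nat_gt B
  obtain ⟨n2, hn2⟩ := exists_nat_gt (-B')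
  set b₀ : ℕ := max 1 (max N1 n1) with hb₀
  set a₀ : ℕ := max 1 (max N2 n2) with ha₀
  have hb1 : (n1 : ℝ) ≤ b₀ := by exact_mod_cast (le_max_right N1 n1).trans (le_max_right _ _)
  have ha1 : (n2 : ℝ) ≤ a₀ := by exact_mod_cast (le_max_right N2 n2).trans (le_max_right _ _)
  have hb2 : N1 ≤ b₀ := (le_max_left N1 n1).trans (le_max_right _ _)
  have ha2 : N2 ≤ a₀ := (le_max_left N2 n2).trans (le_max_right _ _)
  have hb3 : 1 ≤ b₀ := le_max_left _ _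
  have ha3 : 1 ≤ a₀ := le_max_left _ _
  have hevb : (Φ.map (algebraMap ℚ ℝ)).eval (((b₀ : ℚ)) : ℝ) ≠ 0 := by
    intro h1
    have h2 := hroot1 _ h1
    push_cast at h2
    linarith
  have heva : (Φ.map (algebraMap ℚ ℝ)).eval (((-a₀ : ℚ)) : ℝ) ≠ 0 := by
    intro h1
    have h2 := hroot2 _ h1
    push_cast at h2
    linarith
  have hev0 : (Φ.map (algebraMap ℚ ℝ)).eval (((0 : ℚ)) : ℝ) ≠ 0 := by
    rw [ev]
    exact_mod_cast hΦ0
  have hib : idx Ix c h (b₀ : ℚ) = 0 := by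
    have h1 := idx_spec D hΨ one_pos b₀ (by
      rw [ev] at hevb
      have : Φ.eval (b₀ : ℚ) ≠ 0 := by exact_mod_cast hevb
      simpa using this)
    rw [pow_one, zpow_natCast] at h1
    have h2 := hN1 _ hb2 _ h1
    simpa using h2
  have hia : idx Ix c h (-a₀ : ℚ) = g := by
    have h1 := idx_spec D hΨ one_pos (-(a₀ : ℤ)) (by
      rw [ev] at heva
      have : Φ.eval (-a₀ : ℚ) ≠ 0 := by exact_mod_cast heva
      simpa using this)
    rw [pow_one, zpow_neg, zpow_natCast] at h1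
    obtain ⟨h2, h3⟩ := D.inv _ _ h1
    rw [mul_inv, inv_inv] at h3
    have h4 := hN2 _ ha2 _ h3
    have h5 : (((-(a₀ : ℤ) : ℤ) : ℚ) / ((1 : ℕ) : ℚ)) = (-a₀ : ℚ) := by push_cast; ring
    rw [h5] at h2 h4
    omega
  obtain ⟨h1, h2⟩ := RootCount.main hR (idx Ix c h) (hA D hΨ hh) (hB D hΨ hh hne) g
    ((natDegree_map_le).trans hdeg) (-a₀ : ℚ) (b₀ : ℚ) heva hevb hia hib
    (fun t ht => by
      have h3 := hroot1 t ht
      push_cast
      linarith) 0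
    (by
      have : (0 : ℚ) < a₀ := by exact_mod_cast ha3
      linarith) (by exact_mod_cast hb3) hev0
  rw [h0] at h2
  refine ⟨?_, ?_⟩
  · rw [h1, natDegree_map]
  · simpa using h2

end K523.IndexCount
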