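import Groth.Agent.AbVar.K524.Bc
import Groth.Agent.AbSch.K450.RRChi
import Groth.Agent.S0051
import Groth.Agent.S3230

/-!
# Hilbert polynomials and existence of the index of line bundles on abelian varieties

`chi`, `HasIdx` are those of `K524`.

* `exists_idx`: over any field a class with non-zero Euler characteristic has an index;
* `chi_pow`: `χ(c^n) = n^g χ(c)`;
* `snapper`: `n ↦ χ(c h^n)` is a polynomial of degree `≤ g`;
* `serre`: `c h^n` has index `0` for `h` ample, `n` large.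
-/

set_option autoImplicit false
universe u

open CategoryTheory CategoryTheory.Limits MonoidalCategory CartesianMonoidalCategory AlgebraicGeometry
open scoped MonObj
open Groth.Agent Groth.Agent.Grpsch.PicGrp K524.Index K524.Chi K524.Kun
open Groth.Agent.Fga.PicMon (mc mc_tensorPow mc_tensor mc_multiTwist chiCl_mc chiCl mc_eq)

attribute [local instance] Functor.grpObjObj

namespace K523.IndexGeo

variable {k : Type u} [Field k] {X : Over (Spec (CommRingCat.of k))} [IsProper X.hom]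

theorem exists_idx [GrpObj X] [GeometricallyIntegral X.hom] (g : ℕ) (hg : topologicalKrullDim X.left = g)
    (c : Pic X.left) (hc : chi c ≠ 0) : ∃ i, HasIdx c i := by
  rw [← K524.Bc.chi_bc (AlgebraicClosure k)] at hc
  obtain ⟨i, -, hi⟩ := (nd_of_chi hc).exists_idx g ((K524.Bc.dim_bc (AlgebraicClosure k) X).trans hg)
  exact ⟨i, (K524.Bc.hasIdx_bc_iff (AlgebraicClosure k) c i).mp hi.1⟩

theorem chi_pow [GrpObj X] [GeometricallyIntegral X.hom] (g : ℕ) (hg : topologicalKrullDim X.left = g)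
    (c : Pic X.left) (n : ℕ) : chi (c ^ n) = (n : ℤ) ^ g * chi c := by
  obtain ⟨L, hL, rfl⟩ := exists_mk c
  rw [← mk_tensorPow hL n, chi_mk, chi_mk]
  rw [← K450.RRChi.chi_mc k X g hg, ← K450.RRChi.chi_mc k X g hg, mc_tensorPow]
  exact K450.RRChi.chi_pow k X g hg L hL n

theorem snapper (g : ℕ) (hg : topologicalKrullDim X.left = g) (c h : Pic X.left) :
    ∃ q : Polynomial ℚ, q.natDegree ≤ g ∧ ∀ n : ℕ, (chi (c * h ^ n) : ℚ) = q.eval (n : ℚ) := by
  obtain ⟨L, hL, rfl⟩ := exists_mk c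
  obtain ⟨H, hH, rfl⟩ := exists_mk h
  let _ : X.left.Over (Spec (CommRingCat.of k)) := ⟨X.hom⟩
  have hp : IsProper (X.left ↘ (Spec (CommRingCat.of k))) := inferInstanceAs (IsProper X.hom)
  have hN := K450.EulerPull.isNoetherian k X.left
  obtain ⟨P, hP, hP'⟩ := S3230.result k X.left g hg.le (fun _ : Fin 1 => H) (fun _ => hH) L
    (CycB.DegCurve.isCoh_of_isInvertible hL) g ((Topology.IsInducing.subtypeVal.topologicalKrullDim_le).trans hg.le)
  refine ⟨MvPolynomial.aeval (fun _ : Fin 1 => (Polynomial.X : Polynomial ℚ)) P, ?_, fun n => ?_⟩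
  · exact (MvPolynomial.aeval_natDegree_le P hP _ (fun _ => Polynomial.natDegree_X_le)).trans (mul_one g).le
  · have h1 := hP' (fun _ => n)
    rw [← chiCl_mc, mc_multiTwist] at h1
    have h2 : chi (mk L hL * mk H hH ^ n) = chiCl k X.left g L (∏ i : Fin 1, mc H ^ n) := by
      rw [Finset.prod_const, Finset.card_univ, Fintype.card_fin, pow_one, ← mc_tensorPow, chiCl_mc,
        Fga.EulerLEAdd.eulerCharLE_eq_euler k X.left g hg.le, ← mk_tensorPow hH n, mk_mul_mk, chi_mk]
      exact Fga.HodgePush.euler_congr k X.left (Ega2.Tens.swap _ _)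
    rw [h2, h1]
    have h3 := MvPolynomial.comp_aeval_apply (R := ℚ) (fun _ : Fin 1 => (Polynomial.X : Polynomial ℚ))
      (Polynomial.aeval (n : ℚ)) P
    rw [Polynomial.coe_aeval_eq_eval] at h3
    rw [h3, MvPolynomial.aeval_eq_eval]
    simp

theorem serre (c : Pic X.left) (h : X.left.Modules) (hh : CohB1.IsAmple h) :
    ∃ N : ℕ, ∀ n, N ≤ n → ∀ i, HasIdx (c * mk h hh.1 ^ n) i → i = 0 := by
  obtain ⟨L, hL, rfl⟩ := exists_mk c
  obtain ⟨N, hN⟩ := (S0051.result k X.left X.hom h hh.1).1 hh L (CycB.DegCurve.isCoh_of_isInvertible hL)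
  refine ⟨N, fun n hn i hi => ?_⟩
  rw [← mk_tensorPow hh.1 n, mk_mul_mk] at hi
  by_contra h0
  exact hi.2 ((van_mk _ i).2 (hN n hn i (Nat.pos_of_ne_zero h0)))

end K523.IndexGeo
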