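import Mathlib.NumberTheory.Padics.ProperSpace
import Mathlib.NumberTheory.Padics.RingHoms
import Mathlib.Topology.Sequences
import Mathlib.LinearAlgebra.StdBasis
import Mathlib.LinearAlgebra.FreeModule.PID
import Mathlib.LinearAlgebra.TensorProduct.Tower
import Mathlib.RingTheory.Localization.Module
import Mathlib.Topology.Algebra.Module.Basic

/-!
# A compactness argument over the `l`-adic integers

`exists_lim`: `M` free of finite rank over `ℤ_l`, `E` a submodule of `End M`, `W₀`, `L₀` submodules of `M`; if for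
arbitrarily large `n` there is `f ∈ E` with `f L₀ ⊆ l^c (W₀ + l^n M)` and `l^c W₀ ⊆ f L₀`, then there is `φ ∈ E` with
`φ L₀ = l^c W₀`.

`exists_range_eq`: the same for a subspace `W` of `V = ℚ_l ⊗ M`: there is an element of `E` whose range on `V` is `W`.
-/

set_option autoImplicit false

open Filter Topology
open scoped TensorProduct

namespace K523.PadicLim

section Compact

variable {R : Type*} [CommRing R] [TopologicalSpace R] [CompactSpace R]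

/-- Finitely generated submodules over a compact ring are compact. -/
theorem isCompact_of_fg {V : Type*} [AddCommGroup V] [Module R V] [TopologicalSpace V] [ContinuousAdd V]
    [ContinuousSMul R V] (P : Submodule R V) (hP : P.FG) : IsCompact (P : Set V) := by
  obtain ⟨n, s, hs⟩ := Submodule.fg_iff_exists_fin_generating_family.1 hP
  have h1 : (P : Set V) = Set.range (fun c : Fin n → R => ∑ i, c i • s i) := by
    ext x
    rw [SetLike.mem_coe, ← hs, Submodule.mem_span_range_iff_exists_fun]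
    rfl
  rw [h1]
  exact isCompact_range (by fun_prop)

end Compact

section Padic

variable (l : ℕ) [Fact l.Prime]

theorem tendsto_zero {r : ℕ} (n : ℕ → ℕ) (hn : ∀ i, i ≤ n i) (m : ℕ → (Fin r → ℤ_[l])) :
    Tendsto (fun i => (l : ℤ_[l]) ^ (n i) • m i) atTop (𝓝 0) := by
  rw [tendsto_pi_nhds]
  intro j
  have h1 : Tendsto (fun i : ℕ => ((l : ℝ)⁻¹) ^ i) atTop (𝓝 0) := by
    apply tendsto_pow_atTop_nhds_zero_of_lt_one
    · positivity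
    · have : (1 : ℝ) < l := by exact_mod_cast (Fact.out : l.Prime).one_lt
      exact inv_lt_one_of_one_lt₀ this
  refine squeeze_zero_norm (fun i => ?_) h1
  rw [Pi.smul_apply, smul_eq_mul, norm_mul, norm_pow, PadicInt.norm_p]
  calc ((l : ℝ)⁻¹) ^ (n i) * ‖m i j‖ ≤ ((l : ℝ)⁻¹) ^ (n i) * 1 := by
        gcongr
        exact PadicInt.norm_le_one _
    _ = ((l : ℝ)⁻¹) ^ (n i) := mul_one _
    _ ≤ ((l : ℝ)⁻¹) ^ i := by
        apply pow_le_pow_of_le_one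
        · positivity
        · have : (1 : ℝ) ≤ l := by exact_mod_cast (Fact.out : l.Prime).one_lt.le
          exact inv_le_one_of_one_le₀ this
        · exact hn i

variable {M : Type*} [AddCommGroup M] [Module ℤ_[l] M]

theorem exists_lim_of_equiv {r : ℕ} (e : M ≃ₗ[ℤ_[l]] (Fin r → ℤ_[l])) (E : Submodule ℤ_[l] (Module.End ℤ_[l] M))
    (W₀ L₀ : Submodule ℤ_[l] M) (c : ℕ)
    (h : ∀ N : ℕ, ∃ n ≥ N, ∃ f ∈ E, (∀ x ∈ L₀, ∃ w ∈ W₀, ∃ m, f x = (l : ℤ_[l]) ^ c • (w + (l : ℤ_[l]) ^ n • m)) ∧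
      ∀ w ∈ W₀, ∃ x ∈ L₀, f x = (l : ℤ_[l]) ^ c • w) :
    ∃ φ ∈ E, (∀ x ∈ L₀, ∃ w ∈ W₀, φ x = (l : ℤ_[l]) ^ c • w) ∧ ∀ w ∈ W₀, ∃ x ∈ L₀, φ x = (l : ℤ_[l]) ^ c • w := by
  classical
  have hfinM : Module.Finite ℤ_[l] M := Module.Finite.equiv e.symm
  have hfreeM : Module.Free ℤ_[l] M := Module.Free.of_equiv e.symm
  choose n hn f hfE hf1 hf2 using h
  let b := Pi.basisFun ℤ_[l] (Fin r)
  let Ψ : Module.End ℤ_[l] M ≃ₗ[ℤ_[l]] (Fin r → (Fin r → ℤ_[l])) := (e.arrowCongr e).trans (b.constr ℤ_[l]).symm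
  have hΨ : ∀ (g : Module.End ℤ_[l] M) (x : M), e (g x) = ∑ j, e x j • Ψ g j := by
    intro g x
    have h1 : (b.constr ℤ_[l]) (Ψ g) = (e.arrowCongr e) g := by
      simp only [Ψ, LinearEquiv.trans_apply, LinearEquiv.apply_symm_apply]
    have h2 : (e.arrowCongr e) g (e x) = e (g x) := by
      rw [LinearEquiv.arrowCongr_apply, LinearEquiv.symm_apply_apply]
    rw [← h2, ← h1, Module.Basis.constr_apply_fintype]
    rfl
  obtain ⟨G, φ, hφ, hG⟩ := CompactSpace.tendsto_subseq (fun i => Ψ (f i))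
  -- closedness
  have hclE : IsClosed ((E.map Ψ.toLinearMap : Submodule ℤ_[l] (Fin r → (Fin r → ℤ_[l]))) :
      Set (Fin r → (Fin r → ℤ_[l]))) :=
    (isCompact_of_fg (E.map Ψ.toLinearMap) (IsNoetherian.noetherian _)).isClosed
  have hGE : G ∈ E.map Ψ.toLinearMap := by
    refine hclE.mem_of_tendsto hG (Eventually.of_forall fun i => ?_)
    exact ⟨f (φ i), hfE _, rfl⟩
  obtain ⟨Φ, hΦE, hΦG⟩ := hGE
  have hΦG' : Ψ Φ = G := hΦG
  have hcp : ∀ P : Submodule ℤ_[l] M, IsCompact ((P.map e.toLinearMap : Submodule ℤ_[l] (Fin r → ℤ_[l])) :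
      Set (Fin r → ℤ_[l])) :=
    fun P => isCompact_of_fg (P.map e.toLinearMap) (IsNoetherian.noetherian _)
  have hcl : ∀ P : Submodule ℤ_[l] M, IsClosed ((P.map e.toLinearMap : Submodule ℤ_[l] (Fin r → ℤ_[l])) :
      Set (Fin r → ℤ_[l])) :=
    fun P => (hcp P).isClosed
  have hev : ∀ (ξ : ℕ → M) (ψ : ℕ → ℕ) (x : M), Tendsto ψ atTop atTop → Tendsto (fun i => e (ξ i)) atTop (𝓝 (e x)) →
      Tendsto (fun i => e (f (φ (ψ i)) (ξ i))) atTop (𝓝 (e (Φ x))) := by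
    intro ξ ψ x hψ hx
    simp only [hΨ, hΦG']
    refine tendsto_finsetSum _ fun j _ => ?_
    have h1 : Tendsto (fun i => e (ξ i) j) atTop (𝓝 (e x j)) := (tendsto_pi_nhds.1 hx) j
    have h2 : Tendsto (fun i => Ψ (f (φ (ψ i))) j) atTop (𝓝 (G j)) :=
      ((tendsto_pi_nhds.1 hG) j).comp hψ
    exact h1.smul h2
  have hinj : Function.Injective fun x : M => (l : ℤ_[l]) ^ c • x := by
    have hl0 : (l : ℤ_[l]) ^ c ≠ 0 := pow_ne_zero _ (by exact_mod_cast (Fact.out : l.Prime).ne_zero)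
    exact smul_right_injective M hl0
  refine ⟨Φ, hΦE, fun x hx => ?_, fun w hw => ?_⟩
  · choose w hw m hm using fun i => hf1 i x hx
    have h1 := hev (fun _ => x) id x tendsto_id tendsto_const_nhds
    simp only [id, hm] at h1
    have h2 : Tendsto (fun i => (l : ℤ_[l]) ^ (n (φ i)) • e ((l : ℤ_[l]) ^ c • m (φ i))) atTop (𝓝 0) :=
      tendsto_zero l (fun i => n (φ i)) (fun i => (hφ.id_le i).trans (hn (φ i))) _
    have h3 : Tendsto (fun i => e ((l : ℤ_[l]) ^ c • w (φ i))) atTop (𝓝 (e (Φ x))) := by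
      have h4 := h1.sub h2
      rw [sub_zero] at h4
      refine h4.congr fun i => ?_
      rw [smul_add, map_add, smul_comm ((l : ℤ_[l]) ^ c) ((l : ℤ_[l]) ^ n (φ i)), map_smul e ((l : ℤ_[l]) ^ n (φ i)),
        add_sub_cancel_right]
    have h5 : e (Φ x) ∈ (W₀.map (((l : ℤ_[l]) ^ c) • (LinearMap.id : M →ₗ[ℤ_[l]] M))).map e.toLinearMap := by
      refine (hcl _).mem_of_tendsto h3 (Eventually.of_forall fun i => ?_)
      exact ⟨_, ⟨w (φ i), hw _, rfl⟩, rfl⟩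
    obtain ⟨_, ⟨w', hw', rfl⟩, h6⟩ := h5
    exact ⟨w', hw', (e.injective h6).symm⟩
  · choose x hx hxw using fun i => hf2 i w hw
    obtain ⟨a, ha, ψ, hψ, hlim⟩ := (hcp L₀).tendsto_subseq (x := fun i => e (x (φ i)))
      (fun i => ⟨x (φ i), hx _, rfl⟩)
    obtain ⟨x₀, hx₀, rfl⟩ := ha
    have h1 := hev (fun i => x (φ (ψ i))) ψ x₀ hψ.tendsto_atTop hlim
    simp only [hxw] at h1
    have h2 := tendsto_nhds_unique h1 tendsto_const_nhds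
    exact ⟨x₀, hx₀, e.injective h2⟩

theorem exists_lim [Module.Free ℤ_[l] M] [Module.Finite ℤ_[l] M] (E : Submodule ℤ_[l] (Module.End ℤ_[l] M))
    (W₀ L₀ : Submodule ℤ_[l] M) (c : ℕ)
    (h : ∀ N : ℕ, ∃ n ≥ N, ∃ f ∈ E, (∀ x ∈ L₀, ∃ w ∈ W₀, ∃ m, f x = (l : ℤ_[l]) ^ c • (w + (l : ℤ_[l]) ^ n • m)) ∧
      ∀ w ∈ W₀, ∃ x ∈ L₀, f x = (l : ℤ_[l]) ^ c • w) :
    ∃ φ ∈ E, (∀ x ∈ L₀, ∃ w ∈ W₀, φ x = (l : ℤ_[l]) ^ c • w) ∧ ∀ w ∈ W₀, ∃ x ∈ L₀, φ x = (l : ℤ_[l]) ^ c • w :=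
  exists_lim_of_equiv l (Module.finBasis ℤ_[l] M).equivFun E W₀ L₀ c h

end Padic

section BaseChange

variable (l : ℕ) [Fact l.Prime] {M : Type*} [AddCommGroup M] [Module ℤ_[l] M]

/-- Every element of `ℚ_l ⊗ M` is, up to a power of `l`, in the image of `M`. -/
theorem exists_pow_smul (v : ℚ_[l] ⊗[ℤ_[l]] M) : ∃ (N : ℕ) (t : M), ((l : ℚ_[l]) ^ N) • v = 1 ⊗ₜ[ℤ_[l]] t := by
  induction v using TensorProduct.induction_on with
  | zero => exact ⟨0, 0, by simp⟩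
  | tmul a m =>
    obtain ⟨N, hN⟩ : ∃ N : ℕ, ‖((l : ℚ_[l]) ^ N) * a‖ ≤ 1 := by
      obtain ⟨N, hN⟩ := exists_pow_lt_of_lt_one (y := ‖(l : ℚ_[l])‖) (show (0 : ℝ) < 1 / (‖a‖ + 1) by positivity)
        (by simpa using Padic.norm_p_lt_one (p := l))
      refine ⟨N, ?_⟩
      rw [norm_mul, norm_pow]
      have h1 : ‖(l : ℚ_[l])‖ ^ N * ‖a‖ ≤ 1 / (‖a‖ + 1) * ‖a‖ := by gcongr
      refine h1.trans ?_
      rw [div_mul_eq_mul_div, one_mul, div_le_one (by positivity)]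
      linarith
    let z : ℤ_[l] := ⟨((l : ℚ_[l]) ^ N) * a, hN⟩
    refine ⟨N, z • m, ?_⟩
    rw [TensorProduct.smul_tmul', smul_eq_mul, TensorProduct.tmul_smul, TensorProduct.smul_tmul']
    congr 1
    rw [Algebra.smul_def, mul_one]
    rfl
  | add x y hx hy =>
    obtain ⟨N, t, hN⟩ := hx
    obtain ⟨N', t', hN'⟩ := hy
    refine ⟨N + N', ((l : ℤ_[l]) ^ N') • t + ((l : ℤ_[l]) ^ N) • t', ?_⟩
    have hc : ∀ (n : ℕ) (s : M), (1 : ℚ_[l]) ⊗ₜ[ℤ_[l]] (((l : ℤ_[l]) ^ n) • s) = ((l : ℚ_[l]) ^ n) • ((1 : ℚ_[l]) ⊗ₜ[ℤ_[l]] s) := by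
      intro n s
      rw [TensorProduct.tmul_smul, ← algebraMap_smul ℚ_[l] ((l : ℤ_[l]) ^ n)]
      congr 1
    rw [TensorProduct.tmul_add, hc, hc, ← hN, ← hN', smul_smul, smul_smul, smul_add, ← pow_add, ← pow_add,
      add_comm N' N]

theorem tmul_pow_smul (n : ℕ) (s : M) :
    (1 : ℚ_[l]) ⊗ₜ[ℤ_[l]] (((l : ℤ_[l]) ^ n) • s) = ((l : ℚ_[l]) ^ n) • ((1 : ℚ_[l]) ⊗ₜ[ℤ_[l]] s) := by
  rw [TensorProduct.tmul_smul, ← algebraMap_smul ℚ_[l] ((l : ℤ_[l]) ^ n)]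
  congr 1

/-- The intersection of a subspace of `ℚ_l ⊗ M` with `M`. -/
noncomputable def sat (W : Submodule ℚ_[l] (ℚ_[l] ⊗[ℤ_[l]] M)) : Submodule ℤ_[l] M :=
  (W.restrictScalars ℤ_[l]).comap (TensorProduct.mk ℤ_[l] ℚ_[l] M 1)

theorem mem_sat (W : Submodule ℚ_[l] (ℚ_[l] ⊗[ℤ_[l]] M)) (t : M) : t ∈ sat l W ↔ (1 : ℚ_[l]) ⊗ₜ[ℤ_[l]] t ∈ W := Iff.rfl

/-- From the lattice statement to the vector space. -/
theorem range_baseChange_eq (W : Submodule ℚ_[l] (ℚ_[l] ⊗[ℤ_[l]] M)) (L₀ : Submodule ℤ_[l] M) (c : ℕ)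
    (hL : ∀ m : M, ((l : ℤ_[l]) ^ c) • m ∈ L₀) (φ : Module.End ℤ_[l] M)
    (h1 : ∀ x ∈ L₀, ∃ w ∈ sat l W, φ x = (l : ℤ_[l]) ^ c • w)
    (h2 : ∀ w ∈ sat l W, ∃ x ∈ L₀, φ x = (l : ℤ_[l]) ^ c • w) :
    LinearMap.range (φ.baseChange ℚ_[l]) = W := by
  have hl0 : ∀ n : ℕ, (l : ℚ_[l]) ^ n ≠ 0 := fun n => pow_ne_zero _ (by exact_mod_cast (Fact.out : l.Prime).ne_zero)
  apply le_antisymm
  · rintro _ ⟨v, rfl⟩
    obtain ⟨N, t, hN⟩ := exists_pow_smul l v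
    obtain ⟨w, hw, hφ⟩ := h1 _ (hL t)
    have h3 : ((l : ℚ_[l]) ^ c * (l : ℚ_[l]) ^ N) • (φ.baseChange ℚ_[l]) v = ((l : ℚ_[l]) ^ c) • ((1 : ℚ_[l]) ⊗ₜ[ℤ_[l]] w) := by
      rw [← tmul_pow_smul, ← hφ, mul_smul, ← map_smul (φ.baseChange ℚ_[l]) ((l : ℚ_[l]) ^ N), hN,
        ← map_smul (φ.baseChange ℚ_[l]), ← tmul_pow_smul, LinearMap.baseChange_tmul]
    have h4 : (φ.baseChange ℚ_[l]) v = ((l : ℚ_[l]) ^ c * (l : ℚ_[l]) ^ N)⁻¹ • ((l : ℚ_[l]) ^ c) • ((1 : ℚ_[l]) ⊗ₜ[ℤ_[l]] w) := by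
      rw [← h3, smul_smul, inv_mul_cancel₀ (mul_ne_zero (hl0 _) (hl0 _)), one_smul]
    rw [h4]
    exact W.smul_mem _ (W.smul_mem _ hw)
  · intro v hv
    obtain ⟨N, t, hN⟩ := exists_pow_smul l v
    have ht : t ∈ sat l W := by
      rw [mem_sat, ← hN]
      exact W.smul_mem _ hv
    obtain ⟨x, -, hx⟩ := h2 t ht
    refine ⟨((l : ℚ_[l]) ^ c * (l : ℚ_[l]) ^ N)⁻¹ • ((1 : ℚ_[l]) ⊗ₜ[ℤ_[l]] x), ?_⟩
    rw [map_smul, LinearMap.baseChange_tmul, hx, tmul_pow_smul, ← hN, smul_smul, smul_smul, mul_inv_rev,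
      mul_assoc, mul_assoc, inv_mul_cancel_left₀ (hl0 c), inv_mul_cancel₀ (hl0 N), one_smul]

end BaseChange

end K523.PadicLim
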