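import Groth.Agent.AbVar.K519.Tate
import Groth.Agent.AbVar.K523.PadicLim

/-!
# Tate modules of the quotients `X / K_n`

`K` a `ℚ_l`-subspace `W` of `ℚ_l ⊗ T_l X`, `K_n` the image of `T_l X ∩ W` in `X[l^n](T)`.  For homomorphisms
`q : X → Y`, `v : Y → X` with `v ∘ q = l^n`, `q ∘ v = l^n` and `T`-kernel of `q` equal to `K_n` (`IsQuot`), the image of
`T_l(v)` is `(T_l X ∩ W) + l^n T_l X`.  If infinitely many of the `Y`s are isomorphic to one another, then some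
`ℚ_l`-combination of endomorphisms of `X` has range `W` (`exists_mem_span_range_eq`).
-/

set_option autoImplicit false
universe u
open CategoryTheory MonoidalCategory CartesianMonoidalCategory MonObj AlgebraicGeometry AbDual
open scoped TensorProduct

namespace K523.TateQ

variable {S : Scheme.{u}} {A B : Over S} [GrpObj A] [IsCommMonObj A] [GrpObj B] [IsCommMonObj B]
  {l : ℕ} {T : Over S}

omit [IsCommMonObj A] in
/-- `x ≫ (𝟙)^n = x^n`. -/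
theorem comp_id_pow (x : T ⟶ A) (n : ℕ) : x ≫ (𝟙 A) ^ n = x ^ n := by
  rw [MonObj.comp_pow, Category.comp_id]

/-- The image of `T_l(v)` when `v ∘ q = l^n` and `q ∘ v = l^n`. -/
theorem exists_tateMap_eq_iff [Fact l.Prime] (q : A ⟶ B) [IsMonHom q] (v : B ⟶ A) [IsMonHom v] (n : ℕ)
    (h1 : q ≫ v = (𝟙 A) ^ (l ^ n)) (h2 : v ≫ q = (𝟙 B) ^ (l ^ n)) (t : TateMod A l T) :
    (∃ s : TateMod B l T, tateMapₗ (l := l) (T := T) v s = t) ↔
      ((t : ℕ → Additive (T ⟶ A)) n).toMul ≫ q = 1 := by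
  constructor
  · rintro ⟨s, rfl⟩
    rw [K519.Tate.tateMapₗ_apply, toMul_ofMul, Category.assoc, h2, comp_id_pow]
    exact congrArg Additive.toMul (s.torsion n)
  · intro h
    have hs : ∀ m, (l ^ m) • (t : ℕ → Additive (T ⟶ A)) (n + m) = (t : ℕ → Additive (T ⟶ A)) n :=
      K519.Tate.pow_smul_apply_add t n
    refine ⟨⟨fun m => Additive.ofMul (((t : ℕ → Additive (T ⟶ A)) (n + m)).toMul ≫ q), fun m => ?_, fun m => ?_⟩, ?_⟩
    · rw [← nsmul_comp, hs m, h]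
      rfl
    · rw [← nsmul_comp]
      exact congrArg (fun z : Additive (T ⟶ A) => Additive.ofMul (z.toMul ≫ q)) (t.compat (n + m))
    · refine TateMod.ext fun m => ?_
      rw [K519.Tate.tateMapₗ_apply]
      change Additive.ofMul ((((t : ℕ → Additive (T ⟶ A)) (n + m)).toMul ≫ q) ≫ v) = _
      rw [Category.assoc, h1, comp_id_pow, add_comm n m]
      exact K519.Tate.pow_smul_apply_add t m n

/-- `T_l(q) ∘ T_l(v) = l^n`. -/
theorem tateMap_tateMap [Fact l.Prime] (q : A ⟶ B) [IsMonHom q] (v : B ⟶ A) [IsMonHom v] (n : ℕ)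
    (h2 : v ≫ q = (𝟙 B) ^ (l ^ n)) (s : TateMod B l T) :
    tateMapₗ (l := l) (T := T) q (tateMapₗ (l := l) (T := T) v s) = ((l : ℤ_[l]) ^ n) • s := by
  rw [K519.Tate.pow_smul]
  refine TateMod.ext fun m => ?_
  rw [K519.Tate.tateMapₗ_apply, K519.Tate.tateMapₗ_apply, K519.Tate.nsmul_apply, toMul_ofMul, Category.assoc, h2,
    comp_id_pow]
  rfl

section Quot

variable [hl : Fact l.Prime]

/-- The `T`-point `x` is the `n`-th component of an element of `T_l X ∩ W`. -/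
def InK (W : Submodule ℚ_[l] (ℚ_[l] ⊗[ℤ_[l]] TateMod A l T)) (n : ℕ) (x : T ⟶ A) : Prop :=
  ∃ t : TateMod A l T, (1 : ℚ_[l]) ⊗ₜ[ℤ_[l]] t ∈ W ∧ ((t : ℕ → Additive (T ⟶ A)) n).toMul = x

theorem inK_iff (W : Submodule ℚ_[l] (ℚ_[l] ⊗[ℤ_[l]] TateMod A l T)) (n : ℕ) (x : T ⟶ A) :
    InK W n x ↔ ∃ t : TateMod A l T, (1 : ℚ_[l]) ⊗ₜ[ℤ_[l]] t ∈ W ∧ (TateMod.component A l T n t).toMul = x := Iff.rfl

/-- The image of `T_l(v)` for the quotient by `K_n` is `(T_l X ∩ W) + l^n T_l X`. -/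
theorem exists_tateMap_eq_iff_of_ker (W : Submodule ℚ_[l] (ℚ_[l] ⊗[ℤ_[l]] TateMod A l T))
    (q : A ⟶ B) [IsMonHom q] (v : B ⟶ A) [IsMonHom v] (n : ℕ)
    (h1 : q ≫ v = (𝟙 A) ^ (l ^ n)) (h2 : v ≫ q = (𝟙 B) ^ (l ^ n)) (hK : ∀ x : T ⟶ A, x ≫ q = 1 ↔ InK W n x)
    (t : TateMod A l T) :
    (∃ s : TateMod B l T, tateMapₗ (l := l) (T := T) v s = t) ↔
      ∃ w ∈ K523.PadicLim.sat l W, ∃ m : TateMod A l T, t = w + ((l : ℤ_[l]) ^ n) • m := by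
  rw [exists_tateMap_eq_iff q v n h1 h2, hK]
  constructor
  · rintro ⟨w, hw, hwt⟩
    have h3 : ((t - w : TateMod A l T) : ℕ → Additive (T ⟶ A)) n = 0 := by
      rw [K519.Tate.sub_apply, sub_eq_zero]
      exact Additive.toMul.injective hwt.symm
    obtain ⟨m, hm⟩ := K519.Tate.exists_eq_pow_nsmul _ n h3
    refine ⟨w, hw, m, ?_⟩
    rw [K519.Tate.pow_smul, ← hm, add_sub_cancel]
  · rintro ⟨w, hw, m, rfl⟩
    refine ⟨w, hw, ?_⟩
    rw [K519.Tate.add_apply, K519.Tate.pow_smul, K519.Tate.pow_nsmul_apply_self, add_zero]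

/-- The main algebraic statement: `Y_0 = X / K_{n_0}` is isomorphic to `X / K_n` for arbitrarily large `n`. -/
theorem exists_mem_span_range_eq [Module.Free ℤ_[l] (TateMod A l T)] [Module.Finite ℤ_[l] (TateMod A l T)]
    (W : Submodule ℚ_[l] (ℚ_[l] ⊗[ℤ_[l]] TateMod A l T))
    (q₀ : A ⟶ B) [IsMonHom q₀] (v₀ : B ⟶ A) [IsMonHom v₀] (n₀ : ℕ)
    (h1 : q₀ ≫ v₀ = (𝟙 A) ^ (l ^ n₀)) (h2 : v₀ ≫ q₀ = (𝟙 B) ^ (l ^ n₀))
    (hK : ∀ x : T ⟶ A, x ≫ q₀ = 1 ↔ InK W n₀ x)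
    (h : ∀ N : ℕ, ∃ n ≥ N, ∃ (Y : Over S) (_ : GrpObj Y) (_ : IsCommMonObj Y) (q : A ⟶ Y) (_ : IsMonHom q)
      (v : Y ⟶ A) (_ : IsMonHom v) (α : B ≅ Y) (_ : IsMonHom α.hom),
      q ≫ v = (𝟙 A) ^ (l ^ n) ∧ v ≫ q = (𝟙 Y) ^ (l ^ n) ∧ ∀ x : T ⟶ A, x ≫ q = 1 ↔ InK W n x) :
    ∃ u ∈ Submodule.span ℚ_[l] {ψ : Module.End ℚ_[l] (ℚ_[l] ⊗[ℤ_[l]] TateMod A l T) |
          ∃ (f : A ⟶ A) (_ : IsMonHom f), ψ = (tateMapₗ (l := l) (T := T) f).baseChange ℚ_[l]},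
      LinearMap.range u = W := by
  let E : Submodule ℤ_[l] (Module.End ℤ_[l] (TateMod A l T)) :=
    Submodule.span ℤ_[l] {ψ | ∃ (f : A ⟶ A) (_ : IsMonHom f), ψ = tateMapₗ (l := l) (T := T) f}
  let L₀ : Submodule ℤ_[l] (TateMod A l T) := LinearMap.range (tateMapₗ (l := l) (T := T) v₀)
  have hL₀ : ∀ m : TateMod A l T, ((l : ℤ_[l]) ^ n₀) • m ∈ L₀ := by
    intro m
    exact (exists_tateMap_eq_iff_of_ker W q₀ v₀ n₀ h1 h2 hK _).2
      ⟨0, Submodule.zero_mem _, m, (zero_add _).symm⟩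
  obtain ⟨φ, hφE, hφ1, hφ2⟩ := K523.PadicLim.exists_lim l E (K523.PadicLim.sat l W) L₀ n₀ (by
    intro N
    obtain ⟨n, hn, Y, iY, iY', q, hq, v, hv, α, hα, h3, h4, h5⟩ := h N
    have hf : IsMonHom (q₀ ≫ α.hom ≫ v) := inferInstance
    refine ⟨n, hn, tateMapₗ (l := l) (T := T) (q₀ ≫ α.hom ≫ v), Submodule.subset_span ⟨_, hf, rfl⟩, ?_, ?_⟩
    · rintro _ ⟨s, rfl⟩
      obtain ⟨w, hw, m, hm⟩ := (exists_tateMap_eq_iff_of_ker W q v n h3 h4 h5 _).1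
        ⟨tateMapₗ (l := l) (T := T) α.hom s, rfl⟩
      refine ⟨w, hw, m, ?_⟩
      rw [← hm, K519.Tate.tateMapₗ_comp, K519.Tate.tateMapₗ_comp, LinearMap.comp_apply, LinearMap.comp_apply,
        tateMap_tateMap q₀ v₀ n₀ h2, map_smul, map_smul]
    · intro w hw
      obtain ⟨s, hs⟩ := (exists_tateMap_eq_iff_of_ker W q v n h3 h4 h5 w).2
        ⟨w, hw, 0, by rw [smul_zero, add_zero]⟩
      have hα' : IsMonHom α.inv := inferInstance
      refine ⟨tateMapₗ (l := l) (T := T) v₀ (tateMapₗ (l := l) (T := T) α.inv s), ⟨_, rfl⟩, ?_⟩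
      rw [K519.Tate.tateMapₗ_comp, K519.Tate.tateMapₗ_comp, LinearMap.comp_apply, LinearMap.comp_apply,
        tateMap_tateMap q₀ v₀ n₀ h2, map_smul, map_smul, ← hs]
      congr 2
      rw [← LinearMap.comp_apply, ← K519.Tate.tateMapₗ_comp]
      refine TateMod.ext fun m => ?_
      rw [K519.Tate.tateMapₗ_apply, Iso.inv_hom_id, Category.comp_id]
      rfl)
  refine ⟨φ.baseChange ℚ_[l], ?_, K523.PadicLim.range_baseChange_eq l W L₀ n₀ hL₀ φ hφ1 hφ2⟩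
  clear hφ1 hφ2
  refine Submodule.span_induction (p := fun φ _ => φ.baseChange ℚ_[l] ∈ Submodule.span ℚ_[l]
    {ψ : Module.End ℚ_[l] (ℚ_[l] ⊗[ℤ_[l]] TateMod A l T) |
          ∃ (f : A ⟶ A) (_ : IsMonHom f), ψ = (tateMapₗ (l := l) (T := T) f).baseChange ℚ_[l]})
    ?_ ?_ ?_ ?_ hφE
  · rintro _ ⟨f, hf, rfl⟩
    exact Submodule.subset_span ⟨f, hf, rfl⟩
  · rw [LinearMap.baseChange_zero]
    exact Submodule.zero_mem _
  · intro x y _ _ hx hy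
    rw [LinearMap.baseChange_add]
    exact Submodule.add_mem _ hx hy
  · intro a x _ hx
    rw [LinearMap.baseChange_smul, ← algebraMap_smul ℚ_[l] a]
    exact Submodule.smul_mem _ _ hx

end Quot

end K523.TateQ
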