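import Groth.Agent.AbVar.K523.Quot
import Groth.Agent.AbVar.K523.TateQ
import Groth.Agent.Sga3.H780.Pointed
import Mathlib.AlgebraicGeometry.Group.Smooth
import Mathlib.AlgebraicGeometry.Group.Abelian

/-!
# Tate's limit argument

`exists_mem_span_range_eq`: `X` an abelian variety over a field `k`, `l` a prime, `W` a Galois-stable subspace of
`V_l X`.  If, among the quotients `X / K_n` of `X` by the images `K_n` of `T_l X ∩ W` in `X[l^n](Ω)`, only finitely many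
occur up to isomorphism of `k`-schemes, then `W` is the range of an element of `ℚ_l ⊗ End X`.
-/

set_option autoImplicit false
universe u
open CategoryTheory MonoidalCategory CartesianMonoidalCategory MonObj AlgebraicGeometry AbDual
open scoped TensorProduct

namespace K523.TateLim

open Groth.Agent K523.TateQ

section Translate

variable {C : Type*} [Category C] [CartesianMonoidalCategory C] (Y : C) [GrpObj Y]

/-- Translation by a point. -/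
def trans (y : 𝟙_ C ⟶ Y) : Y ≅ Y where
  hom := 𝟙 Y * (toUnit Y ≫ y)
  inv := 𝟙 Y * (toUnit Y ≫ y⁻¹)
  hom_inv_id := by
    rw [MonObj.comp_mul, Category.comp_id, ← Category.assoc, toUnit_unique ((𝟙 Y * (toUnit Y ≫ y)) ≫ toUnit Y) (toUnit Y),
      _root_.mul_assoc, ← MonObj.comp_mul, mul_inv_cancel, MonObj.comp_one, _root_.mul_one]
  inv_hom_id := by
    rw [MonObj.comp_mul, Category.comp_id, ← Category.assoc,
      toUnit_unique ((𝟙 Y * (toUnit Y ≫ y⁻¹)) ≫ toUnit Y) (toUnit Y),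
      _root_.mul_assoc, ← MonObj.comp_mul, inv_mul_cancel, MonObj.comp_one, _root_.mul_one]

end Translate

section Field

variable {k : Type u} [Field k] {A B : Over (Spec (CommRingCat.of k))} [GrpObj A] [GrpObj B]
  [IsProper A.hom] [GeometricallyIntegral A.hom] [IsProper B.hom]

/-- Abelian varieties which are isomorphic as schemes are isomorphic as group schemes. -/
theorem exists_iso (e : A ≅ B) : ∃ (α : A ≅ B), IsMonHom α.hom := by
  let y : 𝟙_ (Over (Spec (CommRingCat.of k))) ⟶ B := η[A] ≫ e.hom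
  let α := e ≪≫ trans B y⁻¹
  have h1 : Subsingleton ↥(Spec (CommRingCat.of k)) := inferInstanceAs (Subsingleton (PrimeSpectrum k))
  have h2 : Smooth A.hom := by
    let : GrpObj (Over.mk A.hom) := inferInstanceAs (GrpObj A)
    exact smooth_of_grpObj A.hom
  have h3 : IsIntegral A.left := GeometricallyIntegral.isIntegral_of_subsingleton A.hom
  have h4 : ConnectedSpace A.left := inferInstance
  refine ⟨α, Sga3.H780.Pointed.isMonHom_of_pointed A B α.hom ?_⟩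
  change η[A] ≫ e.hom ≫ (𝟙 B * (toUnit B ≫ y⁻¹)) = η[B]
  rw [← Category.assoc, MonObj.comp_mul, Category.comp_id]
  change y * (y ≫ toUnit B ≫ y⁻¹) = η[B]
  rw [← Category.assoc, toUnit_unique (y ≫ toUnit B) (𝟙 _), Category.id_comp, mul_inv_cancel]
  rw [Hom.one_def, toUnit_unique (toUnit _) (𝟙 _), Category.id_comp]

end Field

section Main

variable (k Ω : Type u) [Field k] [Field Ω] [Algebra k Ω] (l : ℕ) [Fact l.Prime]
  (X : Over (Spec (CommRingCat.of k))) [GrpObj X] [IsCommMonObj X]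

/-- The subgroup `K_n` of `X(Ω)`. -/
def subK (W : Submodule ℚ_[l] (ℚ_[l] ⊗[ℤ_[l]] TateMod X l (SGA7.pt (K := k) Ω))) (n : ℕ) : Subgroup (SGA7.Pts Ω X) where
  carrier := {x | InK W n x}
  mul_mem' := by
    rintro _ _ ⟨s, hs, rfl⟩ ⟨t, ht, rfl⟩
    refine ⟨s + t, ?_, rfl⟩
    rw [TensorProduct.tmul_add]
    exact W.add_mem hs ht
  one_mem' := ⟨0, by rw [TensorProduct.tmul_zero]; exact W.zero_mem, rfl⟩
  inv_mem' := by
    rintro _ ⟨s, hs, rfl⟩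
    refine ⟨-s, ?_, rfl⟩
    rw [TensorProduct.tmul_neg]
    exact W.neg_mem hs

variable {k Ω l X}

theorem mem_subK (W : Submodule ℚ_[l] (ℚ_[l] ⊗[ℤ_[l]] TateMod X l (SGA7.pt (K := k) Ω))) (n : ℕ) (x : SGA7.Pts Ω X) :
    x ∈ subK k Ω l X W n ↔ InK W n x := Iff.rfl

theorem pow_eq_one (W : Submodule ℚ_[l] (ℚ_[l] ⊗[ℤ_[l]] TateMod X l (SGA7.pt (K := k) Ω))) (n : ℕ) (x : SGA7.Pts Ω X)
    (hx : x ∈ subK k Ω l X W n) : x ^ (l ^ n) = 1 := by
  obtain ⟨t, -, rfl⟩ := hx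
  exact congrArg Additive.toMul (t.torsion n)

theorem galAct_mem (ρ : (Ω ≃ₐ[k] Ω) → Module.End ℤ_[l] (TateMod X l (SGA7.pt (K := k) Ω)))
    (hρ : ∀ (τ : Ω ≃ₐ[k] Ω) (z : TateMod X l (SGA7.pt (K := k) Ω)) (m : ℕ),
      (TateMod.component X l (SGA7.pt Ω) m (ρ τ z)).toMul =
        SGA7.galAct τ (TateMod.component X l (SGA7.pt Ω) m z).toMul)
    (W : Submodule ℚ_[l] (ℚ_[l] ⊗[ℤ_[l]] TateMod X l (SGA7.pt (K := k) Ω)))
    (hW : ∀ τ : Ω ≃ₐ[k] Ω, W.map ((ρ τ).baseChange ℚ_[l]) ≤ W) (n : ℕ) (τ : Ω ≃ₐ[k] Ω) (x : SGA7.Pts Ω X)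
    (hx : x ∈ subK k Ω l X W n) : SGA7.galAct τ x ∈ subK k Ω l X W n := by
  obtain ⟨t, ht, rfl⟩ := hx
  refine ⟨ρ τ t, ?_, hρ τ t n⟩
  apply hW τ
  exact ⟨_, ht, LinearMap.baseChange_tmul _ _ _⟩

/-- **Tate's limit argument.** -/
theorem exists_mem_span_range_eq [IsAlgClosure k Ω] [IsProper X.hom] [GeometricallyIntegral X.hom]
    (ρ : (Ω ≃ₐ[k] Ω) → Module.End ℤ_[l] (TateMod X l (SGA7.pt (K := k) Ω)))
    (hρ : ∀ (τ : Ω ≃ₐ[k] Ω) (z : TateMod X l (SGA7.pt (K := k) Ω)) (m : ℕ),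
      (TateMod.component X l (SGA7.pt Ω) m (ρ τ z)).toMul =
        SGA7.galAct τ (TateMod.component X l (SGA7.pt Ω) m z).toMul)
    [Module.Free ℤ_[l] (TateMod X l (SGA7.pt (K := k) Ω))] [Module.Finite ℤ_[l] (TateMod X l (SGA7.pt (K := k) Ω))]
    (W : Submodule ℚ_[l] (ℚ_[l] ⊗[ℤ_[l]] TateMod X l (SGA7.pt (K := k) Ω)))
    (hW : ∀ τ : Ω ≃ₐ[k] Ω, W.map ((ρ τ).baseChange ℚ_[l]) ≤ W)
    (hFin : ∃ (J : Type u) (_ : Finite J) (F : J → Over (Spec (CommRingCat.of k))),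
        ∀ (Y : Over (Spec (CommRingCat.of k))) [GrpObj Y] [IsCommMonObj Y] [IsProper Y.hom] [GeometricallyIntegral Y.hom]
          (u : X ⟶ Y) [IsMonHom u] (v : Y ⟶ X) [IsMonHom v] (n : ℕ),
          IsFinite u.left → Flat u.left → Surjective u.left → ((l : k) ≠ 0 → Etale u.left) →
          u ≫ v = (𝟙 X) ^ (l ^ n) → v ≫ u = (𝟙 Y) ^ (l ^ n) →
          (∀ x : SGA7.Pts Ω X, x ≫ u = 1 ↔ ∃ t : TateMod X l (SGA7.pt (K := k) Ω), (1 : ℚ_[l]) ⊗ₜ[ℤ_[l]] t ∈ W ∧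
            (TateMod.component X l (SGA7.pt Ω) n t).toMul = x) →
          ∃ i, Nonempty (Y ≅ F i)) :
    ∃ u ∈ Submodule.span ℚ_[l] {ψ : Module.End ℚ_[l] (ℚ_[l] ⊗[ℤ_[l]] TateMod X l (SGA7.pt (K := k) Ω)) |
          ∃ (f : X ⟶ X) (_ : IsMonHom f), ψ = (tateMapₗ (l := l) (T := SGA7.pt Ω) f).baseChange ℚ_[l]},
      LinearMap.range u = W := by
  obtain ⟨J, hJ, F, hF⟩ := hFin
  have hl1 : 1 ≤ l := (Fact.out : l.Prime).one_le
  have hq : ∀ n : ℕ, ∃ (i : J) (B : Over (Spec (CommRingCat.of k))) (_ : GrpObj B) (_ : IsCommMonObj B)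
      (_ : IsProper B.hom) (_ : GeometricallyIntegral B.hom) (q : X ⟶ B) (_ : IsMonHom q) (v : B ⟶ X) (_ : IsMonHom v),
      Nonempty (B ≅ F i) ∧ q ≫ v = 𝟙 X ^ (l ^ n) ∧ v ≫ q = 𝟙 B ^ (l ^ n) ∧
        ∀ x : SGA7.pt (K := k) Ω ⟶ X, x ≫ q = 1 ↔ InK W n x := by
    intro n
    obtain ⟨B, hB, hBc, hprop, hgi, q, hq, v, hv, h1, h2, h3, h4, h5, h6, h7⟩ :=
      Quot.exists_quot X (l ^ n) (Nat.one_le_pow _ _ hl1) (subK k Ω l X W n) (pow_eq_one W n)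
        (galAct_mem ρ hρ W hW n)
    obtain ⟨i, hi⟩ := hF B q v n h1 h2 h3 (fun hl => h4 (by
      rw [Nat.cast_pow]; exact pow_ne_zero _ hl)) h5 h6 h7
    exact ⟨i, B, hB, hBc, hprop, hgi, q, hq, v, hv, hi, h5, h6, h7⟩
  choose i hi using hq
  obtain ⟨j, hj⟩ := Finite.exists_infinite_fiber i
  have hj' : (i ⁻¹' {j}).Infinite := Set.infinite_coe_iff.1 hj
  obtain ⟨n₀, hn₀⟩ := hj'.nonempty
  obtain ⟨B, hB, hBc, hprop, hgi, q₀, hq₀, v₀, hv₀, ⟨e₀⟩, h1, h2, hK⟩ := hi n₀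
  refine TateQ.exists_mem_span_range_eq W q₀ v₀ n₀ h1 h2 hK fun N => ?_
  obtain ⟨n, hn, hNn⟩ := hj'.exists_gt N
  obtain ⟨Y, hY, hYc, hprop', hgi', q, hq, v, hv, ⟨e⟩, h3, h4, hK'⟩ := hi n
  have hn₀' : i n₀ = j := hn₀
  have hn' : i n = j := hn
  obtain ⟨α, hα⟩ := exists_iso (e₀ ≪≫ eqToIso (by rw [hn₀', hn']) ≪≫ e.symm)
  exact ⟨n, hNn.le, Y, hY, hYc, q, hq, v, hv, α, hα, h3, h4, hK'⟩

end Main

end K523.TateLim
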