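import Mathlib.FieldTheory.Minpoly.Field
import Mathlib.RingTheory.AdjoinRoot
import Mathlib.RingTheory.Ideal.Quotient.Operations
import Mathlib.LinearAlgebra.Dimension.Localization
import Mathlib.Algebra.Module.LocalizedModule.Int
import Mathlib.RingTheory.Localization.BaseChange

/-!
# The algebra generated by one element, when it is a field

`of_isField`: `K[x] ⊆ S` (`S` a not necessarily commutative `K`-algebra) is a field: `x` is integral, its minimal
polynomial is irreducible and `[K[x] : K]` is its degree.
-/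

set_option autoImplicit false

open Polynomial

namespace K523.AdjField

variable {K S : Type*} [Field K] [Ring S] [Algebra K S] (x : S)

/-- `K[X] / (minpoly) ≃ K[x]`. -/
noncomputable def equiv : (K[X] ⧸ Ideal.span {minpoly K x}) ≃ₐ[K] Algebra.adjoin K {x} :=
  ((Ideal.quotientEquivAlgOfEq K (minpoly.ker_aeval_eq_span_minpoly K x).symm).trans
    (Ideal.quotientKerEquivRange (aeval (R := K) x))).trans
    (Subalgebra.equivOfEq _ _ (Algebra.adjoin_singleton_eq_range_aeval K x).symm)

theorem finrank_adjoin : Module.finrank K (Algebra.adjoin K {x}) = (minpoly K x).natDegree := by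
  rw [← (equiv x).toLinearEquiv.finrank_eq, finrank_quotient_span_eq_natDegree]

theorem irreducible_of_isField (h : IsField (Algebra.adjoin K {x})) : Irreducible (minpoly K x) := by
  have h1 : IsField (K[X] ⧸ Ideal.span {minpoly K x}) := (equiv x).toMulEquiv.isField h
  have h2 : (Ideal.span {minpoly K x}).IsMaximal := Ideal.Quotient.maximal_of_isField _ h1
  have h3 : minpoly K x ≠ 0 := by
    intro h0
    rw [h0, Ideal.span_singleton_eq_bot.2 rfl] at h2
    exact Polynomial.not_isField K (Ring.isField_iff_maximal_bot.2 h2)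
  exact Ideal.irreducible_of_isMaximal_span_singleton h3 h2

open scoped TensorProduct in
/-- `dim_ℚ (ℚ ⊗ M) = rank_ℤ M`. -/
theorem finrank_rat_tensor (M : Type*) [AddCommGroup M] : Module.finrank ℚ (ℚ ⊗[ℤ] M) = Module.finrank ℤ M := by
  have h1 : IsLocalizedModule (nonZeroDivisors ℤ) (TensorProduct.mk ℤ ℚ M 1) :=
    (isLocalizedModule_iff_isBaseChange (nonZeroDivisors ℤ) ℚ _).2 (TensorProduct.isBaseChange ℤ M ℚ)
  have h2 := IsLocalizedModule.finrank_eq (nonZeroDivisors ℤ) (TensorProduct.mk ℤ ℚ M 1) le_rfl
  have h3 := IsLocalization.finrank_eq (R := ℤ) (N := ℚ ⊗[ℤ] M) ℚ (nonZeroDivisors ℤ) le_rfl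
  rw [h3]
  exact h2

end K523.AdjField
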