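import Groth.Agent.Sga7.H742.P1Dim
import Groth.Agent.S3016
import Groth.Agent.S3037

/-!
# Homomorphisms between algebraic groups of the same dimension

* `isFinite_of_surjective`: a surjective quasi-compact homomorphism `G ⟶ H` of algebraic groups over a field with
  `dim G = dim H` is finite.
* `surjective_of_isFinite`: a finite homomorphism `G ⟶ H` with `dim G = dim H` and `H` irreducible is surjective.
-/

set_option autoImplicit false
universe u

open AlgebraicGeometry CategoryTheory Limits MonoidalCategory CartesianMonoidalCategory MonObj GrpObj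

namespace K523.DimHom

open Groth.Agent

variable {k : Type u} [Field k]

/-- A closed irreducible subset of an irreducible space with the same finite dimension is everything. -/
theorem range_eq_univ_of_dim {U : Type u} [TopologicalSpace U] [IrreducibleSpace U] (Z : Set U) (hcl : IsClosed Z)
    (d : ℕ) (hZ : topologicalKrullDim Z = d) (hU : topologicalKrullDim U = d) : Z = Set.univ := by
  have hi : Topology.IsClosedEmbedding (Subtype.val : Z → U) := hcl.isClosedEmbedding_subtypeVal
  have hZ' : ((d : ℕ) : WithBot ℕ∞) ≤ Order.krullDim (TopologicalSpace.IrreducibleCloseds Z) := hZ.ge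
  have hU' : Order.krullDim (TopologicalSpace.IrreducibleCloseds U) = ((d : ℕ) : WithBot ℕ∞) := hU
  obtain ⟨l, hl⟩ := Order.le_krullDim_iff.mp hZ'
  let m : LTSeries (TopologicalSpace.IrreducibleCloseds U) :=
    l.map (TopologicalSpace.IrreducibleCloseds.map Subtype.val hi.continuous)
      (TopologicalSpace.IrreducibleCloseds.map_strictMono_of_isInducing hi.isInducing)
  have hm : m.length = d := hl
  let top : TopologicalSpace.IrreducibleCloseds U :=
    ⟨Set.univ, IrreducibleSpace.isIrreducible_univ U, isClosed_univ⟩
  by_cases h : m.last < top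
  · exfalso
    have h1 : ((m.snoc top h).length : WithBot ℕ∞) ≤
        Order.krullDim (TopologicalSpace.IrreducibleCloseds U) := Order.LTSeries.length_le_krullDim (m.snoc top h)
    rw [hU', RelSeries.snoc_length, hm] at h1
    have h2 : d + 1 ≤ d := by exact_mod_cast h1
    omega
  · have h3 : m.last = top := by
      by_contra hne
      exact h (lt_of_le_of_ne (fun x _ => Set.mem_univ x) hne)
    have h4 : (m.last : Set U) = Set.univ := by rw [h3]; rfl
    have h5 : (m.last : Set U) ⊆ Z := by
      have : m.last = TopologicalSpace.IrreducibleCloseds.map Subtype.val hi.continuous l.last := rfl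
      rw [this, TopologicalSpace.IrreducibleCloseds.coe_map]
      refine closure_minimal ?_ hcl
      rintro _ ⟨x, -, rfl⟩
      exact x.2
    rw [h4] at h5
    exact Set.univ_subset_iff.mp h5

variable {G H : Over (Spec (CommRingCat.of k))} [GrpObj G] [GrpObj H] [LocallyOfFiniteType G.hom]
  [LocallyOfFiniteType H.hom] (f : G ⟶ H) [IsMonHom f] [QuasiCompact f.left]

include f in
omit [LocallyOfFiniteType H.hom] [GrpObj G] [GrpObj H] [IsMonHom f] [QuasiCompact f.left] in
theorem locallyOfFiniteType_left : LocallyOfFiniteType f.left := by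
  have h1 : LocallyOfFiniteType (f.left ≫ H.hom) := by rw [Over.w]; infer_instance
  exact locallyOfFiniteType_of_comp f.left H.hom

/-- A homomorphism whose kernel has dimension `≤ 0` is finite. -/
theorem isFinite_of_dim_ker
    (hd : topologicalKrullDim ↥(Limits.pullback f.left (η[H] : 𝟙_ (Over (Spec (CommRingCat.of k))) ⟶ H).left) ≤ 0) :
    IsFinite f.left := by
  rw [S3037.result k G H f]
  have h0 := locallyOfFiniteType_left f
  have h1 : LocallyOfFiniteType (Limits.pullback.snd f.left (η[H] : 𝟙_ (Over (Spec (CommRingCat.of k))) ⟶ H).left) := by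
    infer_instance
  have h2 : IsLocallyNoetherian (Limits.pullback f.left (η[H] : 𝟙_ (Over (Spec (CommRingCat.of k))) ⟶ H).left) :=
    LocallyOfFiniteType.isLocallyNoetherian (Y := Spec (CommRingCat.of k))
      (Limits.pullback.snd f.left (η[H] : 𝟙_ (Over (Spec (CommRingCat.of k))) ⟶ H).left)
  have h3 : IsLocallyArtinian (Limits.pullback f.left (η[H] : 𝟙_ (Over (Spec (CommRingCat.of k))) ⟶ H).left) :=
    .of_topologicalKrullDim_le_zero hd
  infer_instance

omit [LocallyOfFiniteType G.hom] [LocallyOfFiniteType H.hom] [GrpObj G] [QuasiCompact f.left] [IsMonHom f] in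
theorem zero_le_dim_ker (e : 𝟙_ (Over (Spec (CommRingCat.of k))) ⟶ G) (he : e ≫ f = η[H]) :
    0 ≤ topologicalKrullDim ↥(Limits.pullback f.left (η[H] : 𝟙_ (Over (Spec (CommRingCat.of k))) ⟶ H).left) := by
  have : Nonempty ↥(Limits.pullback f.left (η[H] : 𝟙_ (Over (Spec (CommRingCat.of k))) ⟶ H).left) := by
    let s : Spec (CommRingCat.of k) ⟶ Limits.pullback f.left (η[H] : 𝟙_ (Over (Spec (CommRingCat.of k))) ⟶ H).left :=
      Limits.pullback.lift e.left (𝟙 _) (by
        have := congrArg (fun f => CommaMorphism.left f) he
        exact this.trans (Category.id_comp _).symm)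
    exact ⟨s (IsLocalRing.closedPoint k)⟩
  obtain ⟨x⟩ := this
  have : Nonempty (TopologicalSpace.IrreducibleCloseds
      ↥(Limits.pullback f.left (η[H] : 𝟙_ (Over (Spec (CommRingCat.of k))) ⟶ H).left)) :=
    ⟨⟨closure {x}, isIrreducible_singleton.closure, isClosed_closure⟩⟩
  exact Order.krullDim_nonneg

/-- A surjective homomorphism between algebraic groups of the same dimension is finite. -/
theorem isFinite_of_surjective [Surjective f.left]
    (hdim : topologicalKrullDim G.left = topologicalKrullDim H.left) : IsFinite f.left := by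
  obtain ⟨-, h1⟩ := S3016.result k G H f
  obtain ⟨g, hg⟩ := Sga7.H742.P1Dim.exists_dim G
  refine isFinite_of_dim_ker f ?_
  have h2 : topologicalKrullDim (Set.range f.left.base) = topologicalKrullDim H.left := by
    have h3 : Set.range f.left.base = Set.univ := Set.range_eq_univ.mpr f.left.surjective
    rw [h3]
    exact IsHomeomorph.topologicalKrullDim_eq _ (Homeomorph.Set.univ _).isHomeomorph
  have h4 := zero_le_dim_ker f η[G] (IsMonHom.one_hom f)
  rw [h2, ← hdim, hg] at h1
  generalize topologicalKrullDim ↥(Limits.pullback f.left (η[H] : 𝟙_ (Over (Spec (CommRingCat.of k))) ⟶ H).left)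
    = d at h1 h4
  cases d with
  | bot => simp at h4
  | coe d =>
    cases d with
    | top =>
      exfalso
      have : ((g : ℕ∞) : WithBot ℕ∞) = ((⊤ : ℕ∞) : WithBot ℕ∞) := by
        have h2 : ((g : ℕ∞) : WithBot ℕ∞) + ((⊤ : ℕ∞) : WithBot ℕ∞) = ((⊤ : ℕ∞) : WithBot ℕ∞) := by
          rw [← WithBot.coe_add, add_top]
        exact Eq.trans h1 h2
      exact absurd (WithBot.coe_injective this) (by simp)
    | coe d =>
      have h5 : (g : ℕ) = g + d := by exact_mod_cast h1
      have h6 : d = 0 := by omega
      subst h6
      simp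

/-- A finite homomorphism between algebraic groups of the same dimension, the target being irreducible, is
surjective. -/
theorem surjective_of_isFinite [IsFinite f.left] [IrreducibleSpace H.left]
    (hdim : topologicalKrullDim G.left = topologicalKrullDim H.left) : Surjective f.left := by
  obtain ⟨h0, h1⟩ := S3016.result k G H f
  obtain ⟨g, hg⟩ := Sga7.H742.P1Dim.exists_dim G
  have h2 := (S3037.result k G H f).mp inferInstance
  have h3 : topologicalKrullDim ↥(Limits.pullback f.left (η[H] : 𝟙_ (Over (Spec (CommRingCat.of k))) ⟶ H).left) = 0 :=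
    le_antisymm (topologicalKrullDim_zero_of_discreteTopology _) (zero_le_dim_ker f η[G] (IsMonHom.one_hom f))
  rw [h3, add_zero] at h1
  have h4 := range_eq_univ_of_dim (Set.range f.left.base) h0 g (by rw [← h1, hg]) (by rw [← hdim, hg])
  exact ⟨Set.range_eq_univ.mp h4⟩

end K523.DimHom
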