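import Groth.Agent.AbVar.K523.Const
import Groth.Agent.AbVar.K523.DimHom
import Groth.Agent.Grpsch.MulFinFlat
import Groth.Agent.Sga3.H780.Pointed

/-!
# Abelian varieties over a field: isogenies

* `geometricallyIntegral_of_smooth_geometricallyConnected`
* `comp_eq_zpow`: `f ≫ g = [d]_A` with `g` finite implies `g ≫ f = [d]_B`.
* `flat_iff_isFinite`
-/

set_option autoImplicit false
universe u

open AlgebraicGeometry CategoryTheory Limits MonoidalCategory CartesianMonoidalCategory MonObj GrpObj

namespace K523.AvField

open Groth.Agent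

variable {k : Type u} [Field k]

theorem geometricallyIntegral_of_smooth_geometricallyConnected (A : Over (Spec (CommRingCat.of k))) [GrpObj A]
    [Smooth A.hom] [GeometricallyConnected A.hom] : GeometricallyIntegral A.hom := by
  have h1 : Subsingleton ↥(Spec (CommRingCat.of k)) := inferInstanceAs (Subsingleton (PrimeSpectrum k))
  have h2 : ConnectedSpace A.left := GeometricallyConnected.connectedSpace_of_subsingleton A.hom
  exact Sga3.H780.Pointed.geometricallyIntegral A

section

variable {A B : Over (Spec (CommRingCat.of k))} [GrpObj A] [GrpObj B] [IsProper B.hom] [GeometricallyIntegral B.hom]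

/-- `f ≫ g = [d]_A` with `g` a finite homomorphism implies `g ≫ f = [d]_B`. -/
theorem comp_eq_zpow (f : A ⟶ B) [IsMonHom f] (g : B ⟶ A) [IsMonHom g] [IsFinite g.left] (d : ℤ)
    (h : f ≫ g = 𝟙 A ^ d) : g ≫ f = 𝟙 B ^ d := by
  have h1 := Grpsch.MulFinFlat.isMonHom_id_zpow k B d
  refine Const.cancel_finite η[B] _ _ ?_ g ?_
  · rw [IsMonHom.one_hom (𝟙 B ^ d), ← Category.assoc, IsMonHom.one_hom g, IsMonHom.one_hom f]
  · rw [Category.assoc, h, GrpObj.comp_zpow, GrpObj.zpow_comp, Category.comp_id, Category.id_comp]

end

end K523.AvField
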