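import Groth.Agent.AbVar.K520.Prod
import Groth.Agent.Grpsch.Cube

/-!
# Bimultiplicative classes on a product of abelian varieties

A class on `A × B` which is trivial on `A × 0` and on `0 × B` is bimultiplicative (theorem of the cube for `A × B`).
-/

set_option autoImplicit false
universe u
open CategoryTheory Limits MonoidalCategory CartesianMonoidalCategory AlgebraicGeometry
open scoped MonObj

namespace K523.Bilin

open Groth.Agent Grpsch.PicGrp Grpsch.Cube

section lift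

variable {C : Type*} [Category C] [CartesianMonoidalCategory C] [BraidedCategory C] {A B T : C} [GrpObj A] [GrpObj B]

theorem lift_mul_lift (a a' : T ⟶ A) (b b' : T ⟶ B) : lift a b * lift a' b' = lift (a * a') (b * b') := by
  apply CartesianMonoidalCategory.hom_ext
  · rw [MonObj.mul_comp, lift_fst, lift_fst, lift_fst]
  · rw [MonObj.mul_comp, lift_snd, lift_snd, lift_snd]

end lift

variable {k : Type u} [Field k] {A B : Over (Spec (CommRingCat.of k))} [GrpObj A] [GrpObj B]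
  [IsProper A.hom] [GeometricallyIntegral A.hom] [IsProper B.hom] [GeometricallyIntegral B.hom]
  (L : Pic (A ⊗ B).left) {T : Over (Spec (CommRingCat.of k))}

/-- The value of the class at the point `(x, t)`. -/
noncomputable def ev (x : T ⟶ A) (t : T ⟶ B) : Pic T.left := pl (lift x t) L

omit [IsProper A.hom] [GeometricallyIntegral A.hom] [IsProper B.hom] [GeometricallyIntegral B.hom] [GrpObj A]
  [GrpObj B] in
theorem ev_comp {T' : Over (Spec (CommRingCat.of k))} (f : T' ⟶ T) (x : T ⟶ A) (t : T ⟶ B) :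
    ev L (f ≫ x) (f ≫ t) = pl f (ev L x t) := by
  rw [ev, ev, ← pl_comp, comp_lift]

omit [IsProper A.hom] [GeometricallyIntegral A.hom] [IsProper B.hom] [GeometricallyIntegral B.hom] in
theorem ev_one_right (h1 : ev L (𝟙 A) (1 : A ⟶ B) = 1) (x : T ⟶ A) : ev L x (1 : T ⟶ B) = 1 := by
  have h := ev_comp L x (𝟙 A) (1 : A ⟶ B)
  rw [Category.comp_id, MonObj.comp_one, h1, pl, map_one] at h
  exact h

omit [IsProper A.hom] [GeometricallyIntegral A.hom] [IsProper B.hom] [GeometricallyIntegral B.hom] in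
theorem ev_one_left (h2 : ev L (1 : B ⟶ A) (𝟙 B) = 1) (t : T ⟶ B) : ev L (1 : T ⟶ A) t = 1 := by
  have h := ev_comp L t (1 : B ⟶ A) (𝟙 B)
  rw [Category.comp_id, MonObj.comp_one, h2, pl, map_one] at h
  exact h

theorem ev_mul_left (h1 : ev L (𝟙 A) (1 : A ⟶ B) = 1) (h2 : ev L (1 : B ⟶ A) (𝟙 B) = 1) (x y : T ⟶ A) (t : T ⟶ B) :
    ev L (x * y) t = ev L x t * ev L y t := by
  have i1 := K520.Prod.isProper_tensor A B
  have i2 := K520.Prod.geometricallyIntegral_tensor A B
  have h := cube (A := A ⊗ B) L (lift x (1 : T ⟶ B)) (lift y (1 : T ⟶ B)) (lift (1 : T ⟶ A) t)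
  rw [lift_mul_lift, lift_mul_lift, lift_mul_lift, lift_mul_lift] at h
  simp only [mul_one, one_mul] at h
  change ev L (x * y) t * ev L x 1 * ev L y 1 * ev L 1 t = ev L (x * y) 1 * ev L x t * ev L y t at h
  rw [ev_one_right L h1, ev_one_right L h1, ev_one_right L h1, ev_one_left L h2, mul_one, mul_one, mul_one, one_mul] at h
  exact h

theorem ev_mul_right (h1 : ev L (𝟙 A) (1 : A ⟶ B) = 1) (h2 : ev L (1 : B ⟶ A) (𝟙 B) = 1) (x : T ⟶ A) (s t : T ⟶ B) :
    ev L x (s * t) = ev L x s * ev L x t := by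
  have i1 := K520.Prod.isProper_tensor A B
  have i2 := K520.Prod.geometricallyIntegral_tensor A B
  have h := cube (A := A ⊗ B) L (lift (1 : T ⟶ A) s) (lift (1 : T ⟶ A) t) (lift x (1 : T ⟶ B))
  rw [lift_mul_lift, lift_mul_lift, lift_mul_lift, lift_mul_lift] at h
  simp only [mul_one, one_mul] at h
  change ev L x (s * t) * ev L 1 s * ev L 1 t * ev L x 1 = ev L 1 (s * t) * ev L x s * ev L x t at h
  rw [ev_one_left L h2, ev_one_left L h2, ev_one_left L h2, ev_one_right L h1, mul_one, mul_one, mul_one, one_mul] at h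
  exact h

theorem ev_pow_left (h1 : ev L (𝟙 A) (1 : A ⟶ B) = 1) (h2 : ev L (1 : B ⟶ A) (𝟙 B) = 1) (x : T ⟶ A) (t : T ⟶ B)
    (n : ℕ) : ev L (x ^ n) t = ev L x t ^ n := by
  induction n with
  | zero => rw [pow_zero, pow_zero, ev_one_left L h2]
  | succ n ih => rw [pow_succ, pow_succ, ev_mul_left L h1 h2, ih]

theorem ev_pow_right (h1 : ev L (𝟙 A) (1 : A ⟶ B) = 1) (h2 : ev L (1 : B ⟶ A) (𝟙 B) = 1) (x : T ⟶ A) (t : T ⟶ B)
    (n : ℕ) : ev L x (t ^ n) = ev L x t ^ n := by
  induction n with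
  | zero => rw [pow_zero, pow_zero, ev_one_right L h1]
  | succ n ih => rw [pow_succ, pow_succ, ev_mul_right L h1 h2, ih]

theorem ev_inv_left (h1 : ev L (𝟙 A) (1 : A ⟶ B) = 1) (h2 : ev L (1 : B ⟶ A) (𝟙 B) = 1) (x : T ⟶ A) (t : T ⟶ B) :
    ev L x⁻¹ t * ev L x t = 1 := by
  rw [← ev_mul_left L h1 h2, inv_mul_cancel, ev_one_left L h2]

theorem ev_inv_right (h1 : ev L (𝟙 A) (1 : A ⟶ B) = 1) (h2 : ev L (1 : B ⟶ A) (𝟙 B) = 1) (x : T ⟶ A) (t : T ⟶ B) :
    ev L x t⁻¹ * ev L x t = 1 := by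
  rw [← ev_mul_right L h1 h2, inv_mul_cancel, ev_one_right L h1]

end K523.Bilin
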