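import Groth.Agent.Sga3.H780.RigidProper

/-!
# Morphisms from a proper geometrically integral scheme to affine or finite targets are constant

* `eq_toUnit_comp`: a morphism from a proper geometrically integral pointed scheme over a field to an affine scheme
  is constant.
* `eq_toUnit_comp_of_finite`: the same for a morphism `h : X ⟶ B` which becomes constant after a finite `g : B ⟶ A`.
* `eq_one_of_comp_eq_one`: homomorphisms `h`, `g` of group schemes with `g` finite and `h ≫ g = 1`: then `h = 1`.
-/

set_option autoImplicit false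
universe u

open AlgebraicGeometry CategoryTheory Limits MonoidalCategory CartesianMonoidalCategory MonObj GrpObj

namespace K523.Const

variable {k : Type u} [Field k]

/-- A morphism from a proper geometrically integral scheme to an affine scheme is constant (pointed form). -/
theorem eq_toUnit_comp (X T : Over (Spec (CommRingCat.of k))) [IsProper X.hom] [GeometricallyIntegral X.hom]
    [IsAffine T.left] (σ : 𝟙_ (Over (Spec (CommRingCat.of k))) ⟶ X) (f : X ⟶ T) :
    f = toUnit X ≫ σ ≫ f := by
  have h1 : IsIso X.hom.appTop := Groth.Agent.Sga3.H780.RigidProper.isIso_appTop_hom X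
  have h2 : σ.left ≫ X.hom = 𝟙 _ := Over.w σ
  have h3 := congr(($h2).appTop)
  rw [Scheme.Hom.comp_appTop, Scheme.Hom.id_appTop] at h3
  have h4 : σ.left.appTop ≫ X.hom.appTop = 𝟙 _ := by
    rw [← cancel_epi X.hom.appTop, ← Category.assoc, h3]
    exact (Category.id_comp _).trans (Category.comp_id _).symm
  have h5 : (toUnit X).left = X.hom := (Over.w (toUnit X)).symm ▸ (by simp)
  ext1
  apply ext_of_isAffine
  rw [Over.comp_left, Over.comp_left, h5, Scheme.Hom.comp_appTop, Scheme.Hom.comp_appTop, Category.assoc, h4,
    Category.comp_id]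

/-- A morphism from a proper geometrically integral scheme which becomes constant after a finite morphism is
constant. -/
theorem eq_toUnit_comp_of_finite {X B A : Over (Spec (CommRingCat.of k))} [IsProper X.hom]
    [GeometricallyIntegral X.hom] (σ : 𝟙_ (Over (Spec (CommRingCat.of k))) ⟶ X) (h : X ⟶ B) (g : B ⟶ A)
    [IsFinite g.left] (a : 𝟙_ (Over (Spec (CommRingCat.of k))) ⟶ A) (hh : h ≫ g = toUnit X ≫ a) :
    h = toUnit X ≫ σ ≫ h := by
  let P : Over (Spec (CommRingCat.of k)) := Over.mk (pullback.snd g.left a.left)
  have hP : IsFinite P.hom := inferInstanceAs (IsFinite (pullback.snd g.left a.left))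
  have hPa : IsAffine P.left := isAffine_of_isAffineHom P.hom
  have ha : a.left ≫ A.hom = 𝟙 _ := Over.w a
  let i : P ⟶ B := Over.homMk (pullback.fst g.left a.left) (by
    have h := pullback.condition (f := g.left) (g := a.left) =≫ A.hom
    simp only [Category.assoc, ha, Over.w] at h
    exact h.trans (Category.comp_id _))
  have h5 : (toUnit X).left = X.hom := (Over.w (toUnit X)).symm ▸ (by simp)
  let t : X ⟶ P := Over.homMk (pullback.lift h.left X.hom (by
    have := congrArg (fun f => CommaMorphism.left f) hh
    simpa [h5] using this)) (pullback.lift_snd _ _ _)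
  have ht : t ≫ i = h := by
    ext1
    exact pullback.lift_fst _ _ _
  rw [← ht]
  conv_lhs => rw [eq_toUnit_comp X P σ t]
  simp

/-- If `g` is a finite homomorphism and `h ≫ g = 1` for a pointed morphism `h` from a proper geometrically integral
scheme, then `h = 1`. -/
theorem eq_one_of_comp_eq_one {X B A : Over (Spec (CommRingCat.of k))} [IsProper X.hom]
    [GeometricallyIntegral X.hom] [GrpObj B] [GrpObj A] (σ : 𝟙_ (Over (Spec (CommRingCat.of k))) ⟶ X)
    (h : X ⟶ B) (hσ : σ ≫ h = 1) (g : B ⟶ A) [IsFinite g.left] (hh : h ≫ g = 1) : h = 1 := by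
  have h1 := eq_toUnit_comp_of_finite σ h g η[A] (by rw [hh, MonObj.one_eq_one, MonObj.comp_one])
  rw [hσ, MonObj.comp_one] at h1
  exact h1

/-- Cancellation of a finite homomorphism of group schemes on the right. -/
theorem cancel_finite {X B A : Over (Spec (CommRingCat.of k))} [IsProper X.hom]
    [GeometricallyIntegral X.hom] [GrpObj B] [GrpObj A] (σ : 𝟙_ (Over (Spec (CommRingCat.of k))) ⟶ X)
    (h h' : X ⟶ B) (hσ : σ ≫ h = σ ≫ h') (g : B ⟶ A) [IsMonHom g] [IsFinite g.left]
    (hh : h ≫ g = h' ≫ g) : h = h' := by
  have h1 : h * h'⁻¹ = 1 := by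
    refine eq_one_of_comp_eq_one σ (h * h'⁻¹) ?_ g ?_
    · rw [MonObj.comp_mul, GrpObj.comp_inv, hσ, mul_inv_cancel]
    · rw [MonObj.mul_comp, GrpObj.inv_comp, hh, mul_inv_cancel]
  exact mul_inv_eq_one.mp h1

end K523.Const
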