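import Groth.Agent.AbVar.K521.MinChar
import Groth.Agent.Grpsch.MulFinFlat
import Groth.Agent.Sga3C.QuotProps

/-!
# Torsion-freeness of homomorphism groups of abelian varieties

`eq_one_of_pow`: `Hom_k(A, B)` is torsion free for `A` an abelian variety and `B` any group;
`toEnd0_injective`: `End(A) → ℚ ⊗ End(A)` is injective.
-/

set_option autoImplicit false
universe u
open CategoryTheory Limits MonoidalCategory CartesianMonoidalCategory MonObj AlgebraicGeometry
open scoped TensorProduct

namespace K523.EndTors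

open Groth.Agent

variable {k : Type u} [Field k] {A B : Over (Spec (CommRingCat.of k))} [GrpObj A] [IsProper A.hom]
  [GeometricallyIntegral A.hom] [GrpObj B]

theorem epi_pow (n : ℕ) (hn : n ≠ 0) : Epi ((𝟙 A) ^ n) := by
  have h := Grpsch.MulFinFlat.isFinite_flat_surjective_zpow k A (n : ℤ) (by exact_mod_cast hn)
  rw [zpow_natCast] at h
  obtain ⟨h1, h2, h3⟩ := h
  exact Sga3C.QuotProps.epi_of_flat_surjective _

theorem eq_one_of_pow (f : A ⟶ B) [IsMonHom f] (n : ℕ) (hn : n ≠ 0) (h : f ^ n = 1) : f = 1 := by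
  have := epi_pow (A := A) n hn
  rw [← cancel_epi ((𝟙 A) ^ n), MonObj.comp_one, MonObj.pow_comp, Category.id_comp, h]

theorem eq_zero_of_zsmul [IsCommMonObj A] [IsCommMonObj B] (φ : EndAV.Hom A B) (n : ℤ) (hn : n ≠ 0) (h : n • φ = 0) :
    φ = 0 := by
  have h1 : n.natAbs • φ = 0 := by
    rcases Int.natAbs_eq n with h2 | h2
    · rw [h2, natCast_zsmul] at h; exact h
    · rw [h2, neg_smul, neg_eq_zero, natCast_zsmul] at h; exact h
  apply EndAV.Hom.ext
  refine eq_one_of_pow φ.toHom n.natAbs (Int.natAbs_ne_zero.2 hn) ?_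
  rw [← EndAV.Hom.toHom_nsmul, h1]
  rfl

theorem toEnd0_injective [IsCommMonObj A] : Function.Injective (EndAV.toEnd0 (A := A)) := by
  rw [injective_iff_map_eq_zero]
  intro φ h
  obtain ⟨n, hn, hφ⟩ := K521.MinChar.exists_zsmul_eq_zero φ h
  exact eq_zero_of_zsmul φ n hn hφ

/-- `End(A)` is commutative if and only if the centre of `End⁰(A)` is everything. -/
theorem center_eq_top_iff [IsCommMonObj A] :
    Subalgebra.center ℚ (EndAV.End0 A) = ⊤ ↔ ∀ a b : EndAV.End A, a * b = b * a := by
  constructor
  · intro h a b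
    apply toEnd0_injective
    rw [map_mul, map_mul]
    have h1 : EndAV.toEnd0 a ∈ Subalgebra.center ℚ (EndAV.End0 A) := h ▸ Algebra.mem_top
    exact ((Subalgebra.mem_center_iff.1 h1) (EndAV.toEnd0 b)).symm
  · intro h
    rw [eq_top_iff]
    rintro x -
    rw [Subalgebra.mem_center_iff]
    intro y
    induction x using TensorProduct.induction_on with
    | zero => rw [mul_zero, zero_mul]
    | add x x' hx hx' => rw [mul_add, add_mul, hx, hx']
    | tmul q a =>
      induction y using TensorProduct.induction_on with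
      | zero => rw [mul_zero, zero_mul]
      | add y y' hy hy' => rw [mul_add, add_mul, hy, hy']
      | tmul r b => rw [Algebra.TensorProduct.tmul_mul_tmul, Algebra.TensorProduct.tmul_mul_tmul, mul_comm r q, h b a]

end K523.EndTors
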