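import Mathlib.Analysis.Polynomial.Basic
import Mathlib.Analysis.Complex.Polynomial.Basic
import Mathlib.Analysis.Real.Sqrt
import Mathlib.Topology.Algebra.Polynomial
import Mathlib.Algebra.Polynomial.Roots

/-!
# The product of the roots of a characteristic polynomial of Frobenius

`eval_nonneg`: a monic real polynomial all of whose real roots have even multiplicity is non-negative.
`prod_roots_eq`: if the `2g` complex roots have absolute value `√q` and `±√q` have even multiplicity, then the product
of the roots is `q^g`.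
-/

set_option autoImplicit false

open Polynomial

namespace K523.FrobRoots

theorem eval_pos_of_no_root (R : ℝ[X]) (hR : R.Monic) (h : ∀ x, R.eval x ≠ 0) (y : ℝ) : 0 < R.eval y := by
  by_contra hy
  rw [not_lt] at hy
  rcases Nat.eq_zero_or_pos R.natDegree with h0 | h0
  · rw [hR.natDegree_eq_zero.1 h0, eval_one] at hy
    linarith
  · have h1 : Filter.Tendsto (fun x => R.eval x) Filter.atTop Filter.atTop :=
      R.tendsto_atTop_of_leadingCoeff_nonneg (natDegree_pos_iff_degree_pos.1 h0) (by rw [hR.leadingCoeff]; norm_num)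
    obtain ⟨z, hz⟩ := (h1.eventually (Filter.eventually_ge_atTop 0)).exists
    obtain ⟨c, hc⟩ := mem_range_of_exists_le_of_exists_ge R.continuous ⟨y, hy⟩ ⟨z, hz⟩
    exact h c hc

theorem eval_nonneg (R : ℝ[X]) (hR : R.Monic) (h : ∀ x, Even (R.rootMultiplicity x)) (y : ℝ) : 0 ≤ R.eval y := by
  induction hn : R.natDegree using Nat.strong_induction_on generalizing R with
  | _ n ih =>
    by_cases hx : ∃ x, R.eval x = 0
    · obtain ⟨x, hx⟩ := hx
      obtain ⟨R₁, hR₁, hd⟩ := exists_eq_pow_rootMultiplicity_mul_and_not_dvd R hR.ne_zero x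
      have hm : 0 < R.rootMultiplicity x := (rootMultiplicity_pos hR.ne_zero).2 hx
      have hmon : R₁.Monic := by
        refine Monic.of_mul_monic_left ((monic_X_sub_C x).pow (R.rootMultiplicity x)) ?_
        rw [← hR₁]
        exact hR
      have hdeg : R₁.natDegree < n := by
        have := congrArg natDegree hR₁
        rw [((monic_X_sub_C x).pow _).natDegree_mul hmon, natDegree_pow, natDegree_X_sub_C, hn] at this
        omega
      have hne : (X - C x) ^ R.rootMultiplicity x * R₁ ≠ 0 := hR₁ ▸ hR.ne_zero
      have h1 : 0 ≤ R₁.eval y := by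
        refine ih _ hdeg R₁ hmon (fun z => ?_) rfl
        have h2 := rootMultiplicity_mul (x := z) hne
        rw [← hR₁] at h2
        by_cases hzx : z = x
        · subst hzx
          rw [rootMultiplicity_eq_zero (fun hr => hd (dvd_iff_isRoot.2 hr))]
          exact Even.zero
        · have h3 : ((X - C x) ^ R.rootMultiplicity x).rootMultiplicity z = 0 := by
            apply rootMultiplicity_eq_zero
            rw [IsRoot.def, eval_pow, eval_sub, eval_X, eval_C]
            exact pow_ne_zero _ (sub_ne_zero.2 hzx)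
          rw [h3, zero_add] at h2
          rw [← h2]
          exact h z
      rw [hR₁, eval_mul, eval_pow]
      exact mul_nonneg ((h x).pow_nonneg _) h1
    · push Not at hx
      exact (eval_pos_of_no_root R hR hx y).le

theorem prod_roots_eq (P : ℤ[X]) (hP : P.Monic) (g : ℕ) (hdeg : P.natDegree = 2 * g) (q : ℕ)
    (habs : ∀ α ∈ (P.map (Int.castRingHom ℂ)).roots, ‖α‖ = Real.sqrt q)
    (h1 : Even ((P.map (Int.castRingHom ℝ)).rootMultiplicity (Real.sqrt q)))
    (h2 : Even ((P.map (Int.castRingHom ℝ)).rootMultiplicity (-Real.sqrt q))) :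
    (P.map (Int.castRingHom ℂ)).roots.prod = (q : ℂ) ^ g := by
  have hsp : Splits (P.map (Int.castRingHom ℂ)) := IsAlgClosed.splits _
  have hmon : (P.map (Int.castRingHom ℂ)).Monic := hP.map _
  have hcard : Multiset.card (P.map (Int.castRingHom ℂ)).roots = 2 * g := by
    rw [← hsp.natDegree_eq_card_roots, natDegree_map_eq_of_injective (Int.cast_injective (α := ℂ)), hdeg]
  have hprod : ((P.coeff 0 : ℤ) : ℂ) = (P.map (Int.castRingHom ℂ)).roots.prod := by
    have h3 := hsp.coeff_zero_eq_prod_roots_of_monic hmon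
    rw [coeff_map, natDegree_map_eq_of_injective (Int.cast_injective (α := ℂ)), hdeg, pow_mul] at h3
    simpa using h3
  have hnorm : ‖(P.map (Int.castRingHom ℂ)).roots.prod‖ = (q : ℝ) ^ g := by
    have h4 : ∀ s : Multiset ℂ, (∀ α ∈ s, ‖α‖ = Real.sqrt q) → ‖s.prod‖ = Real.sqrt q ^ (Multiset.card s) := by
      intro s
      induction s using Multiset.induction_on with
      | empty => simp
      | cons a s ih =>
        intro hs
        rw [Multiset.prod_cons, norm_mul, ih fun α hα => hs α (Multiset.mem_cons_of_mem hα),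
          hs a (Multiset.mem_cons_self _ _), Multiset.card_cons, pow_succ, mul_comm]
    rw [h4 _ habs, hcard, pow_mul, Real.sq_sqrt (Nat.cast_nonneg _)]
  have hreal : ∀ x : ℝ, (P.map (Int.castRingHom ℝ)).eval x = 0 → x = Real.sqrt q ∨ x = -Real.sqrt q := by
    intro x hx
    have h5 : (x : ℂ) ∈ (P.map (Int.castRingHom ℂ)).roots := by
      rw [mem_roots hmon.ne_zero, IsRoot.def]
      have h6 : P.map (Int.castRingHom ℂ) = (P.map (Int.castRingHom ℝ)).map Complex.ofRealHom := by
        rw [map_map]; congr 1
      rw [h6]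
      have h7 := eval_map_apply (f := Complex.ofRealHom) (p := P.map (Int.castRingHom ℝ)) x
      rw [hx] at h7
      simpa using h7
    have h8 := habs _ h5
    rw [Complex.norm_real, Real.norm_eq_abs] at h8
    rcases abs_choice x with h9 | h9
    · left; rw [← h9, h8]
    · right; rw [← h8, h9, neg_neg]
  have hRmon : (P.map (Int.castRingHom ℝ)).Monic := hP.map _
  have hnn := eval_nonneg (P.map (Int.castRingHom ℝ)) hRmon (fun x => by
    by_cases hx : (P.map (Int.castRingHom ℝ)).eval x = 0
    · rcases hreal x hx with rfl | rfl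
      · exact h1
      · exact h2
    · rw [rootMultiplicity_eq_zero hx]
      exact Even.zero) 0
  have h10 : (0 : ℝ) ≤ ((P.coeff 0 : ℤ) : ℝ) := by
    have : (P.map (Int.castRingHom ℝ)).eval 0 = ((P.coeff 0 : ℤ) : ℝ) := by
      rw [← coeff_zero_eq_eval_zero, coeff_map]; rfl
    rwa [this] at hnn
  rw [← hprod] at hnorm ⊢
  have h11 : ((P.coeff 0 : ℤ) : ℝ) = (q : ℝ) ^ g := by
    rw [← hnorm, Complex.norm_intCast, abs_of_nonneg h10]
  have h12 : P.coeff 0 = (q : ℤ) ^ g := by exact_mod_cast h11
  rw [h12]
  push_cast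
  rfl

end K523.FrobRoots
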