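import Mathlib.Algebra.BigOperators.Ring.Finset
import Mathlib.Data.Nat.Choose.Sum
import Mathlib.Analysis.Complex.Polynomial.Basic

/-!
# The functional equation: combinatorics of products over subsets

For `a : Fin n → F` with non-zero values, `n ≥ 2` even and `Q = ∏ a_i`, the rational function
`∏_I (1 - a_I x)^(-1)^(|I|+1)` is invariant under `x ↦ (Q x)⁻¹`.
-/

set_option autoImplicit false

open Finset

namespace K523.FunEq

variable {F : Type*} [Field F]

theorem prod_zpow_sum {ι : Type*} (S : Finset ι) (c : F) (hc : c ≠ 0) (f : ι → ℤ) :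
    ∏ i ∈ S, c ^ f i = c ^ (∑ i ∈ S, f i) := by
  classical
  induction S using Finset.induction_on with
  | empty => simp
  | insert a S ha ih => rw [prod_insert ha, sum_insert ha, ih, zpow_add₀ hc]

theorem prod_zpow_eq_one {n : ℕ} (hn : 2 ≤ n) (a : Fin n → F) (ha : ∀ i, a i ≠ 0) (x : F) (hx : x ≠ 0) :
    ∏ I : Finset (Fin n), (-(∏ i ∈ Iᶜ, a i) * x) ^ ((-1 : ℤ) ^ I.card) = 1 := by
  classical
  let i₀ : Fin n := ⟨0, by omega⟩
  have h1 : (univ : Finset (Finset (Fin n))) = (insert i₀ (univ.erase i₀)).powerset := by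
    rw [insert_erase (mem_univ _), powerset_univ]
  rw [h1, prod_powerset_insert (notMem_erase _ _), ← prod_mul_distrib]
  have h2 : ∀ I ∈ ((univ : Finset (Fin n)).erase i₀).powerset,
      (-(∏ i ∈ Iᶜ, a i) * x) ^ ((-1 : ℤ) ^ I.card) *
        (-(∏ i ∈ (insert i₀ I)ᶜ, a i) * x) ^ ((-1 : ℤ) ^ (insert i₀ I).card) = (a i₀) ^ ((-1 : ℤ) ^ I.card) := by
    intro I hI
    have hi : i₀ ∉ I := fun h => by simpa using (mem_powerset.1 hI) h
    have hne : ∏ i ∈ (insert i₀ I)ᶜ, a i ≠ 0 := prod_ne_zero_iff.2 fun i _ => ha i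
    have h3 : ∏ i ∈ Iᶜ, a i = a i₀ * ∏ i ∈ (insert i₀ I)ᶜ, a i := by
      rw [compl_insert, mul_prod_erase]
      rwa [mem_compl]
    rw [card_insert_of_notMem hi, h3, pow_succ, mul_neg_one, zpow_neg, ← div_eq_mul_inv, ← div_zpow]
    congr 1
    field_simp
  rw [prod_congr rfl h2, prod_zpow_sum _ _ (ha i₀), sum_powerset_neg_one_pow_card_of_nonempty, zpow_zero]
  exact ⟨⟨1, by omega⟩, by simp [i₀, Fin.ext_iff]⟩

theorem prod_one_sub_zpow_eq {n : ℕ} (hn : 2 ≤ n) (hev : Even n) (a : Fin n → F) (ha : ∀ i, a i ≠ 0) (x : F)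
    (hx : x ≠ 0) :
    ∏ I : Finset (Fin n), (1 - (∏ i ∈ I, a i) * ((∏ i, a i) * x)⁻¹) ^ ((-1 : ℤ) ^ (I.card + 1)) =
      ∏ I : Finset (Fin n), (1 - (∏ i ∈ I, a i) * x) ^ ((-1 : ℤ) ^ (I.card + 1)) := by
  classical
  have h1 : ∀ I : Finset (Fin n), (1 - (∏ i ∈ I, a i) * ((∏ i, a i) * x)⁻¹) ^ ((-1 : ℤ) ^ (I.card + 1)) =
      (-(∏ i ∈ Iᶜ, a i) * x) ^ ((-1 : ℤ) ^ I.card) * (1 - (∏ i ∈ Iᶜ, a i) * x) ^ ((-1 : ℤ) ^ (Iᶜ.card + 1)) := by
    intro I
    have hI : ∏ i ∈ I, a i ≠ 0 := prod_ne_zero_iff.2 fun i _ => ha i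
    have hIc : ∏ i ∈ Iᶜ, a i ≠ 0 := prod_ne_zero_iff.2 fun i _ => ha i
    have h2 : ∏ i, a i = (∏ i ∈ I, a i) * ∏ i ∈ Iᶜ, a i := (prod_mul_prod_compl I a).symm
    have h3 : 1 - (∏ i ∈ I, a i) * ((∏ i, a i) * x)⁻¹ =
        (-(∏ i ∈ Iᶜ, a i) * x)⁻¹ * (1 - (∏ i ∈ Iᶜ, a i) * x) := by
      rw [h2]
      field_simp
      ring
    have h4 : (-1 : ℤ) ^ (Iᶜ.card + 1) = (-1 : ℤ) ^ (I.card + 1) := by
      rw [pow_succ, pow_succ]
      congr 1
      have h5 : I.card + Iᶜ.card = n := by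
        have := card_add_card_compl I
        rwa [Fintype.card_fin] at this
      have h6 : (-1 : ℤ) ^ I.card * (-1) ^ Iᶜ.card = 1 := by
        rw [← pow_add, h5, hev.neg_one_pow]
      rcases neg_one_pow_eq_or ℤ I.card with h | h <;> rcases neg_one_pow_eq_or ℤ Iᶜ.card with h' | h' <;>
        rw [h, h'] at h6 ⊢ <;> simp at h6
    rw [h3, mul_zpow, h4, inv_zpow', pow_succ, mul_neg_one, neg_neg]
  rw [prod_congr rfl fun I _ => h1 I, prod_mul_distrib, prod_zpow_eq_one hn a ha x hx, one_mul]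
  exact Fintype.prod_equiv (Equiv.mk (fun I : Finset (Fin n) => Iᶜ) (fun I => Iᶜ) (fun I => compl_compl I)
    (fun I => compl_compl I)) _ _ fun I => rfl

/-- The product over the sub-multisets. -/
theorem prod_eval_eq (s : Multiset F) {n : ℕ} (a : Fin n → F) (hs : s = univ.val.map a) (j : ℕ) (x : F) :
    Polynomial.eval x ((s.powersetCard j).map
      (fun I => (1 : Polynomial F) - Polynomial.C I.prod * Polynomial.X)).prod =
      ∏ I ∈ powersetCard j (univ : Finset (Fin n)), (1 - (∏ i ∈ I, a i) * x) := by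
  rw [Polynomial.eval_multiset_prod, Multiset.map_map, hs, Multiset.powersetCard_map, Multiset.map_map, Finset.prod]
  have h3 : (powersetCard j (univ : Finset (Fin n))).val = (Multiset.powersetCard j univ.val).pmap Finset.mk
      (fun _t h => Multiset.nodup_of_le (Multiset.mem_powersetCard.1 h).1 univ.nodup) := rfl
  rw [h3, Multiset.map_pmap]
  congr 1
  rw [← Multiset.pmap_eq_map (fun _ => True) _ _ (fun _ _ => trivial)]
  refine Multiset.pmap_congr _ fun I _ _ _ => ?_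
  simp [Finset.prod]

theorem prod_zpow {ι : Type*} (S : Finset ι) (f : ι → F) (m : ℤ) : (∏ i ∈ S, f i) ^ m = ∏ i ∈ S, f i ^ m := by
  classical
  induction S using Finset.induction_on with
  | empty => simp
  | insert a S ha ih => rw [prod_insert ha, prod_insert ha, mul_zpow, ih]

theorem prod_range_eq (s : Multiset F) {n : ℕ} (a : Fin n → F) (hs : s = univ.val.map a) (x : F) :
    ∏ j ∈ range (n + 1), (Polynomial.eval x ((s.powersetCard j).map
      (fun I => (1 : Polynomial F) - Polynomial.C I.prod * Polynomial.X)).prod) ^ ((-1 : ℤ) ^ (j + 1)) =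
      ∏ I : Finset (Fin n), (1 - (∏ i ∈ I, a i) * x) ^ ((-1 : ℤ) ^ (I.card + 1)) := by
  classical
  rw [← powerset_univ, prod_powerset, card_univ, Fintype.card_fin]
  refine prod_congr rfl fun j _ => ?_
  rw [prod_eval_eq s a hs, prod_zpow]
  refine prod_congr rfl fun I hI => ?_
  rw [(mem_powersetCard.1 hI).2]

omit [Field F] in
theorem exists_enum (s : Multiset F) : ∃ a : Fin (Multiset.card s) → F, s = univ.val.map a := by
  refine ⟨fun i => s.toList.get (i.cast (Multiset.length_toList s).symm), ?_⟩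
  conv_lhs => rw [← Multiset.coe_toList s]
  rw [Fin.univ_val_map]
  congr 1
  apply List.ext_getElem
  · simp
  · intro i h1 h2
    simp

/-- The functional equation. -/
theorem functional_equation (s : Multiset F) (g : ℕ) (hg : 1 ≤ g) (hs : Multiset.card s = 2 * g) (h0 : (0 : F) ∉ s)
    (Q x : F) (hQ : s.prod = Q) (hx : x ≠ 0) :
    ∏ j ∈ range (2 * g + 1), (Polynomial.eval ((Q * x)⁻¹) ((s.powersetCard j).map
      (fun I => (1 : Polynomial F) - Polynomial.C I.prod * Polynomial.X)).prod) ^ ((-1 : ℤ) ^ (j + 1)) =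
    ∏ j ∈ range (2 * g + 1), (Polynomial.eval x ((s.powersetCard j).map
      (fun I => (1 : Polynomial F) - Polynomial.C I.prod * Polynomial.X)).prod) ^ ((-1 : ℤ) ^ (j + 1)) := by
  obtain ⟨a, ha⟩ := exists_enum s
  have ha0 : ∀ i, a i ≠ 0 := by
    intro i hi
    apply h0
    rw [ha, Multiset.mem_map]
    exact ⟨i, Finset.mem_univ_val i, hi⟩
  have hQ' : Q = ∏ i, a i := by
    rw [← hQ]
    conv_lhs => rw [ha]
    rfl
  rw [← hs, prod_range_eq s a ha, prod_range_eq s a ha, hQ']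
  exact prod_one_sub_zpow_eq (by omega) ⟨g, by omega⟩ a ha0 x hx

end K523.FunEq
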