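import Groth.Prelude.Def_SGA7a
import Groth.Agent.AbVar.K521.GeomPts
import Mathlib.AlgebraicGeometry.ResidueField
import Mathlib.FieldTheory.IsAlgClosed.Basic

/-!
# Geometric points of schemes over a field and the Galois action

`Ω` an algebraic closure of `k`.

* `exists_galAct_eq`: two `Ω`-points with the same image are conjugate under `Aut_k(Ω)`;
* `apply_galAct`: conjugate points have the same image;
* `exists_pts`: every closed point of a `k`-scheme locally of finite type is the image of an `Ω`-point.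
-/

set_option autoImplicit false
universe u

open CategoryTheory Limits AlgebraicGeometry MonoidalCategory CartesianMonoidalCategory MonObj

namespace K523.GalPts

/-- Two integral embeddings of a field in algebraically closed fields are isomorphic. -/
theorem exists_ringEquiv {F L M : Type u} [Field F] [Field L] [Field M] [IsAlgClosed L] [IsAlgClosed M]
    (f : F →+* L) (g : F →+* M) (hf : f.IsIntegral) (hg : g.IsIntegral) :
    ∃ σ : L ≃+* M, ∀ x, σ (f x) = g x := by
  let _ := f.toAlgebra
  let _ := g.toAlgebra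
  have h1 : Algebra.IsIntegral F L := ⟨hf⟩
  have h2 : Algebra.IsIntegral F M := ⟨hg⟩
  have h3 : IsAlgClosure F L := ⟨inferInstance, inferInstance⟩
  have h4 : IsAlgClosure F M := ⟨inferInstance, inferInstance⟩
  exact ⟨(IsAlgClosure.equiv F L M).toRingEquiv, fun x => (IsAlgClosure.equiv F L M).commutes x⟩

variable {k Ω : Type u} [Field k] [Field Ω] [Algebra k Ω]

/-- the point of `Spec Ω` -/
noncomputable abbrev pt0 (Ω : Type u) [Field Ω] : Spec (CommRingCat.of Ω) := IsLocalRing.closedPoint Ω

theorem apply_galAct {X : Over (Spec (CommRingCat.of k))} (σ : Ω ≃ₐ[k] Ω) (x : SGA7.Pts Ω X) :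
    (SGA7.galAct σ x).left (pt0 Ω) = x.left (pt0 Ω) := by
  have : (SGA7.galAct σ x).left = (SGA7.specAut σ).left ≫ x.left := rfl
  rw [this, Scheme.Hom.comp_apply]
  congr 1
  have : Subsingleton ↥(Spec (CommRingCat.of Ω)) := inferInstanceAs (Subsingleton (PrimeSpectrum Ω))
  exact @Subsingleton.elim ↥(Spec (CommRingCat.of Ω)) this _ _

/-- Two `Ω`-points with the same image are conjugate. -/
theorem exists_galAct_eq [IsAlgClosure k Ω] {X : Over (Spec (CommRingCat.of k))} (x y : SGA7.Pts Ω X)
    (h : x.left (pt0 Ω) = y.left (pt0 Ω)) : ∃ σ : Ω ≃ₐ[k] Ω, SGA7.galAct σ x = y := by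
  have hΩ : IsAlgClosed Ω := IsAlgClosure.isAlgClosed k
  obtain ⟨a, ha⟩ : ∃ a, a = Scheme.SpecToEquivOfField Ω X.left x.left := ⟨_, rfl⟩
  obtain ⟨b, hb⟩ : ∃ b, b = Scheme.SpecToEquivOfField Ω X.left y.left := ⟨_, rfl⟩
  have hx : x.left = Spec.map a.2 ≫ X.left.fromSpecResidueField a.1 := by
    rw [ha]; exact ((Scheme.SpecToEquivOfField Ω X.left).symm_apply_apply x.left).symm
  have hy : y.left = Spec.map b.2 ≫ X.left.fromSpecResidueField b.1 := by
    rw [hb]; exact ((Scheme.SpecToEquivOfField Ω X.left).symm_apply_apply y.left).symm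
  have hab : a.1 = b.1 := by rw [ha, hb]; exact h
  clear ha hb h
  obtain ⟨z, φ⟩ := a
  obtain ⟨z', ψ⟩ := b
  simp only at hab hx hy
  subst hab
  -- the structure map of the residue field
  obtain ⟨s, hs⟩ : ∃ s : CommRingCat.of k ⟶ X.left.residueField z,
      Spec.map s = X.left.fromSpecResidueField z ≫ X.hom := ⟨_, Spec.map_preimage _⟩
  have h1 : s ≫ φ = CommRingCat.ofHom (algebraMap k Ω) := by
    apply Spec.map_injective
    rw [Spec.map_comp, hs, ← Category.assoc, ← hx]
    exact Over.w x
  have h2 : s ≫ ψ = CommRingCat.ofHom (algebraMap k Ω) := by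
    apply Spec.map_injective
    rw [Spec.map_comp, hs, ← Category.assoc, ← hy]
    exact Over.w y
  have hint : (algebraMap k Ω).IsIntegral := by
    have := IsAlgClosure.isAlgebraic (R := k) (K := Ω)
    exact fun x => Algebra.IsIntegral.isIntegral x
  have h3 : φ.hom.IsIntegral := by
    refine RingHom.IsIntegral.tower_top s.hom φ.hom ?_
    rw [← CommRingCat.hom_comp, h1]
    exact hint
  have h4 : ψ.hom.IsIntegral := by
    refine RingHom.IsIntegral.tower_top s.hom ψ.hom ?_
    rw [← CommRingCat.hom_comp, h2]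
    exact hint
  obtain ⟨σ, hσ⟩ := exists_ringEquiv (F := X.left.residueField z) (L := Ω) (M := Ω) φ.hom ψ.hom h3 h4
  let τ : Ω ≃ₐ[k] Ω := AlgEquiv.ofRingEquiv (f := σ) (fun c => by
    have e1 : φ.hom (s.hom c) = algebraMap k Ω c := by
      rw [← CommRingCat.comp_apply, h1]; rfl
    have e2 : ψ.hom (s.hom c) = algebraMap k Ω c := by
      rw [← CommRingCat.comp_apply, h2]; rfl
    rw [← e1, hσ, e2, e1])
  refine ⟨τ, ?_⟩
  ext1
  have h5 : (SGA7.galAct τ x).left = Spec.map (CommRingCat.ofHom (τ : Ω →+* Ω)) ≫ x.left := rfl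
  rw [h5, hx, hy, ← Category.assoc, ← Spec.map_comp]
  congr 2
  ext c
  exact hσ c

/-- Every closed point of a scheme locally of finite type is the image of an `Ω`-point. -/
theorem exists_pts [IsAlgClosed Ω] {X : Over (Spec (CommRingCat.of k))} [LocallyOfFiniteType X.hom] (z : X.left)
    (hz : IsClosed {z}) : ∃ x : SGA7.Pts Ω X, x.left (pt0 Ω) = z := by
  let s := Spec.map (CommRingCat.ofHom (algebraMap k Ω))
  have h0 : Surjective s := by
    have : Subsingleton ↥(Spec (CommRingCat.of k)) := inferInstanceAs (Subsingleton (PrimeSpectrum k))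
    exact ⟨fun y => ⟨pt0 Ω, Subsingleton.elim _ _⟩⟩
  have h1 : Surjective (pullback.fst X.hom s) := inferInstance
  have h2 : LocallyOfFiniteType (pullback.snd X.hom s) := inferInstance
  have h3 : JacobsonSpace ↥(pullback X.hom s) := LocallyOfFiniteType.jacobsonSpace (pullback.snd X.hom s)
  obtain ⟨w, hw⟩ := (pullback.fst X.hom s).surjective z
  have hcl : IsClosed ((pullback.fst X.hom s) ⁻¹' {z}) := hz.preimage (pullback.fst X.hom s).continuous
  obtain ⟨c, hcz, hc⟩ := nonempty_inter_closedPoints (X := ↥(pullback X.hom s))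
    (Z := (pullback.fst X.hom s) ⁻¹' {z}) ⟨w, hw⟩ hcl.isLocallyClosed
  have hc' : IsClosed {c} := hc
  refine ⟨Over.homMk (pointOfClosedPoint (pullback.snd X.hom s) c hc' ≫ pullback.fst X.hom s) ?_, ?_⟩
  · rw [Category.assoc, pullback.condition, pointOfClosedPoint_comp_assoc]
    rfl
  · change (pointOfClosedPoint (pullback.snd X.hom s) c hc' ≫ pullback.fst X.hom s) (pt0 Ω) = z
    rw [Scheme.Hom.comp_apply, pointOfClosedPoint_apply]
    exact hcz

end K523.GalPts
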