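import Groth.Prelude.Def_AlgGrp
import Groth.Agent.Desc.MorDescent
import Groth.Agent.Sga3C.QuotProps
import Mathlib.AlgebraicGeometry.Morphisms.LocalFlatDescent

/-!
# Properties of a faithfully flat homomorphism read off from its kernel

* `isPullback_ker`: the kernel pair of a homomorphism `q` with kernel `i : N ⟶ G` is `G ⊗ N`;
* `isFinite_of_ker`, `etale_of_ker`;
* `exists_desc_hom`: homomorphisms killing the kernel descend.
-/

set_option autoImplicit false
universe v u

open CategoryTheory MonoidalCategory CartesianMonoidalCategory MonObj GrpObj AlgebraicGeometry Limits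

namespace K523.KerSq

section Cat

variable {C : Type u} [Category.{v} C] [CartesianMonoidalCategory C]

/-- The kernel pair of a homomorphism. -/
theorem isPullback_ker {N G Q : C} [GrpObj G] [GrpObj Q] (i : N ⟶ G) (q : G ⟶ Q) [IsMonHom q]
    (h : IsPullback i (toUnit N) q η[Q]) : IsPullback (fst G N) (fst G N * (snd G N ≫ i)) q q := by
  have hiq : i ≫ q = 1 := by
    rw [h.w, Hom.one_def]
  refine ⟨⟨?_⟩, ⟨PullbackCone.IsLimit.mk _ (fun s => lift s.fst (h.lift (s.fst⁻¹ * s.snd) (toUnit _) ?_)) ?_ ?_ ?_⟩⟩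
  · rw [MonObj.mul_comp, Category.assoc, hiq, MonObj.comp_one, _root_.mul_one]
  · rw [MonObj.mul_comp, GrpObj.inv_comp, s.condition, inv_mul_cancel, Hom.one_def]
  · intro s
    rw [lift_fst]
  · intro s
    rw [MonObj.comp_mul, lift_fst, ← Category.assoc, lift_snd, h.lift_fst, mul_inv_cancel_left]
  · intro s m h1 h2
    have h3 : m ≫ snd G N ≫ i = s.fst⁻¹ * s.snd := by
      rw [← h2, MonObj.comp_mul, h1, inv_mul_cancel_left]
    apply CartesianMonoidalCategory.hom_ext
    · rw [h1, lift_fst]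
    · rw [lift_snd]
      apply h.hom_ext
      · rw [h.lift_fst, Category.assoc, h3]
      · exact toUnit_unique _ _

/-- Elements with the same image differ by the kernel. -/
theorem exists_lift_ker {N G Q T : C} [GrpObj Q] {n : N ⟶ G} {f : G ⟶ Q}
    (h : IsPullback n (toUnit N) f η[Q]) (x : T ⟶ G) (hx : x ≫ f = 1) : ∃ z : T ⟶ N, z ≫ n = x :=
  ⟨h.lift x (toUnit T) (hx.trans Hom.one_def), h.lift_fst _ _ _⟩

end Cat

variable {S : Scheme.{u}} {N G Q : Over S} [GrpObj G] [GrpObj Q]

theorem isPullback_left (i : N ⟶ G) (q : G ⟶ Q) [IsMonHom q] (h : AlgGrp.IsKernel i q) :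
    IsPullback (fst G N).left (fst G N * (snd G N ≫ i)).left q.left q.left :=
  (isPullback_ker i q h).map (Over.forget S)

/-- A property stable under base change and descending along faithfully flat quasi-compact morphisms, true for the
kernel, is true for the quotient morphism. -/
theorem of_ker (P : MorphismProperty Scheme.{u}) [P.IsStableUnderBaseChange]
    [P.DescendsAlong (@Surjective ⊓ @Flat ⊓ @QuasiCompact : MorphismProperty Scheme.{u})]
    (i : N ⟶ G) (q : G ⟶ Q) [IsMonHom q] (h : AlgGrp.IsKernel i q) [Flat q.left] [Surjective q.left]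
    [QuasiCompact q.left] (hN : P N.hom) : P q.left := by
  have h1 : P (fst G N).left := MorphismProperty.pullback_fst (P := P) G.hom N.hom hN
  exact MorphismProperty.of_isPullback_of_descendsAlong (P := P)
    (Q := @Surjective ⊓ @Flat ⊓ @QuasiCompact) (isPullback_left i q h) ⟨⟨‹_›, ‹_›⟩, ‹_›⟩ h1

theorem isFinite_of_ker (i : N ⟶ G) (q : G ⟶ Q) [IsMonHom q] (h : AlgGrp.IsKernel i q) [Flat q.left]
    [Surjective q.left] [QuasiCompact q.left] [IsFinite N.hom] : IsFinite q.left := by
  have := Groth.Agent.Desc.MorDescent.descendsAlong_isFinite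
  exact of_ker (@IsFinite) i q h inferInstance

theorem etale_of_ker (i : N ⟶ G) (q : G ⟶ Q) [IsMonHom q] (h : AlgGrp.IsKernel i q) [Flat q.left]
    [Surjective q.left] [QuasiCompact q.left] [Etale N.hom] : Etale q.left :=
  of_ker (@Etale) i q h inferInstance

/-- Homomorphisms killing the kernel descend along quotients. -/
theorem exists_desc_hom {P : Over S} [GrpObj P] (i : N ⟶ G) (q : G ⟶ Q)
    [IsMonHom q] [Flat q.left] [Surjective q.left] [LocallyOfFinitePresentation q.left]
    (h : AlgGrp.IsKernel i q) (φ : G ⟶ P) [IsMonHom φ] (hφ : i ≫ φ = 1) :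
    ∃ ψ : Q ⟶ P, IsMonHom ψ ∧ q ≫ ψ = φ := by
  obtain ⟨ψ, hψ⟩ := Groth.Agent.Sga3C.QuotProps.exists_desc q φ (fun T x y hxy => by
    obtain ⟨z, hz⟩ := exists_lift_ker h (x * y⁻¹) (by
      rw [MonObj.mul_comp, GrpObj.inv_comp, hxy, mul_inv_cancel])
    have h1 : (x * y⁻¹) ≫ φ = 1 := by
      rw [← hz, Category.assoc, hφ, MonObj.comp_one]
    rw [MonObj.mul_comp, GrpObj.inv_comp] at h1
    exact mul_inv_eq_one.mp h1)
  have hsc : MorphismProperty.IsStableUnderComposition (@Surjective : MorphismProperty Scheme.{u}) :=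
    ⟨fun _ _ hf hg => ⟨hg.1.comp hf.1⟩⟩
  refine ⟨ψ, ⟨?_, ?_⟩, hψ⟩
  · rw [← IsMonHom.one_hom q, Category.assoc, hψ, IsMonHom.one_hom]
  · have f2 : Flat (q ⊗ₘ q).left :=
      Groth.Agent.Sga3C.QuotProps.tensorHom_left_of (@Flat) q q ‹_› ‹_›
    have s2 : Surjective (q ⊗ₘ q).left :=
      Groth.Agent.Sga3C.QuotProps.tensorHom_left_of (@Surjective : MorphismProperty Scheme.{u}) q q ‹_› ‹_›
    have := Groth.Agent.Sga3C.QuotProps.epi_of_flat_surjective (q ⊗ₘ q)
    rw [← cancel_epi (q ⊗ₘ q), ← Category.assoc, ← IsMonHom.mul_hom q, Category.assoc, hψ,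
      IsMonHom.mul_hom, ← Category.assoc, tensorHom_comp_tensorHom, hψ]

end K523.KerSq
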