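import Groth.Agent.AbVar.K523.Bilin
import Groth.Agent.AbVar.K530.PicZero

/-!
# The Poincaré class is bimultiplicative

For an abelian variety `A` over a field and a dual `(At, φ)`, a Poincaré class `P ∈ Pic(A × At)` is trivial on
`A × 0` and `0 × At`; hence `(id × [n])^* P = P^n = ([n] × id)^* P` for all `n`.
-/

set_option autoImplicit false
universe u
open CategoryTheory Limits MonoidalCategory CartesianMonoidalCategory AlgebraicGeometry
open scoped MonObj

namespace K523.Poinc

open Groth.Agent Grpsch.PicGrp Grpsch.Cube Fga.RigGrp K530.PicZero Bilin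

section Over

variable {S : Scheme.{u}} {A B : Over S} {T : Over S}

theorem lift_left_fst (x : T ⟶ A) (t : T ⟶ B) :
    ((lift x t).left : T.left ⟶ pullback A.hom B.hom) ≫ pullback.fst A.hom B.hom = x.left := by
  change (lift x t).left ≫ (fst A B).left = _
  rw [← Over.comp_left, lift_fst]

theorem lift_left_snd (x : T ⟶ A) (t : T ⟶ B) :
    ((lift x t).left : T.left ⟶ pullback A.hom B.hom) ≫ pullback.snd A.hom B.hom = t.left := by
  change (lift x t).left ≫ (snd A B).left = _
  rw [← Over.comp_left, lift_snd]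

theorem fst_left : (fst A B).left = pullback.fst A.hom B.hom := rfl
theorem snd_left : (snd A B).left = pullback.snd A.hom B.hom := rfl

/-- `id × g` as a morphism into the product. -/
theorem XTmap_eq (g : T ⟶ B) : PicF.XTmap A.hom g = (lift (fst A T) (snd A T ≫ g)).left := by
  apply pullback.hom_ext
  · rw [XTmap_fst]
    exact (lift_left_fst (fst A T) (snd A T ≫ g)).symm
  · refine Eq.trans (pullback.lift_snd _ _ _) ?_
    exact (lift_left_snd (fst A T) (snd A T ≫ g)).symm

theorem bcMap_eq (f : T ⟶ A) : AbDual.bcMap f B = (lift (fst T B ≫ f) (snd T B)).left := by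
  apply pullback.hom_ext
  · refine Eq.trans (pullback.lift_fst _ _ _) ?_
    exact (lift_left_fst (fst T B ≫ f) (snd T B)).symm
  · refine Eq.trans (pullback.lift_snd _ _ _) ?_
    refine Eq.trans (Category.comp_id _) ?_
    exact (lift_left_snd (fst T B ≫ f) (snd T B)).symm

end Over

variable {k : Type u} [Field k] {A At : Over (Spec (CommRingCat.of k))} [GrpObj A] [GrpObj At]
  {φ : ∀ T : Over (Spec (CommRingCat.of k)), PicF.Cl (PicF.XT A.hom T) → (T ⟶ At)}

section

omit [GrpObj A] in
theorem phi_mul (hφ : AbDual.IsDualAV Scheme.fppfPrecoverage A At φ) (T : Over (Spec (CommRingCat.of k)))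
    (a b : Pic (PicF.XT A.hom T)) (ha : AbDual.IsPicZeroCl A.hom T (toCl a)) (hb : AbDual.IsPicZeroCl A.hom T (toCl b)) :
    φ T (toCl (a * b)) = φ T (toCl a) * φ T (toCl b) := by
  obtain ⟨L, hL, rfl⟩ := exists_mk a
  obtain ⟨M, hM, rfl⟩ := exists_mk b
  rw [mk_mul_mk]
  exact hφ.mul T L M ha hb

omit [GrpObj A] in
theorem isPicZeroCl_one (T : Over (Spec (CommRingCat.of k))) : AbDual.IsPicZeroCl A.hom T (toCl 1) :=
  (isPicZeroCl_toCl_iff A.hom T 1).2 (FibZero.one _)

omit [GrpObj A] in
theorem phi_one (hφ : AbDual.IsDualAV Scheme.fppfPrecoverage A At φ) (T : Over (Spec (CommRingCat.of k))) :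
    φ T (toCl 1) = 1 := by
  have h := phi_mul hφ T 1 1 (isPicZeroCl_one T) (isPicZeroCl_one T)
  rw [mul_one] at h
  exact mul_left_cancel (h.symm.trans (mul_one _).symm)

end

variable [IsProper A.hom] [GeometricallyIntegral A.hom] [IsProper At.hom] [GeometricallyIntegral At.hom]

section

variable (hφ : AbDual.IsDualAV Scheme.fppfPrecoverage A At φ) (c : Pic (PicF.XT A.hom At))
  (hξ : AbDual.IsPoincareCl A At φ (toCl c))

include hξ in
omit [IsProper A.hom] [GeometricallyIntegral A.hom] [IsProper At.hom] [GeometricallyIntegral At.hom] in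
theorem mem_Rg : c ∈ Rg A.hom η[A].left (Over.w η[A]) At := by
  rw [Fga.RigGrp.mem_Rg, ← isTrivialCl_toCl_iff, toCl_pull]
  exact hξ.2.2

include hξ in
omit [IsProper A.hom] [GeometricallyIntegral A.hom] [IsProper At.hom] [GeometricallyIntegral At.hom] in
theorem ev_one_id : ev (A := A) (B := At) c (1 : At ⟶ A) (𝟙 At) = 1 := by
  have h1 := (Fga.RigGrp.mem_Rg A.hom η[A].left (Over.w η[A])).1 (mem_Rg c hξ)
  have h2 : PicF.secT A.hom η[A].left (Over.w η[A]) At = (lift (1 : At ⟶ A) (𝟙 At)).left := by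
    apply pullback.hom_ext
    · rw [secT_fst]
      refine Eq.trans ?_ (lift_left_fst (1 : At ⟶ A) (𝟙 At)).symm
      rfl
    · refine Eq.trans (pullback.lift_snd _ _ _) ?_
      exact (lift_left_snd (1 : At ⟶ A) (𝟙 At)).symm
  rw [h2] at h1
  exact h1

include hφ hξ in
omit [IsProper At.hom] [GeometricallyIntegral At.hom] in
theorem ev_id_one : ev (A := A) (B := At) c (𝟙 A) (1 : A ⟶ At) = 1 := by
  have hflat : Flat A.hom := inferInstance
  have hlofp : LocallyOfFinitePresentation A.hom := inferInstance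
  have h0 := hξ.1
  let U : Over (Spec (CommRingCat.of k)) := 𝟙_ _
  let g : U ⟶ At := η[At]
  have h1 : pull (PicF.XTmap A.hom g) c = 1 := by
    refine eq_of_phi_eq A.hom (K530.RigInj.bij_of_isProper A.hom) η[A].left (Over.w η[A]) hφ.relPic U _ _
      (pull_mem g (mem_Rg c hξ)) (one_mem _) ?_ (isPicZeroCl_one U) ?_
    · rw [toCl_pull]
      exact isPicZeroCl_pullCl A.hom g h0
    · rw [toCl_pull, hφ.relPic.natural At U g _ h0, hξ.2.1, phi_one hφ, Category.comp_id]
      change η[At] = toUnit U ≫ η[At]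
      rw [toUnit_unique (toUnit U) (𝟙 _), Category.id_comp]
  have h2 : (lift (𝟙 A) (1 : A ⟶ At)) = lift (𝟙 A) (toUnit A) ≫ lift (fst A U) (snd A U ≫ g) := by
    apply CartesianMonoidalCategory.hom_ext
    · rw [Category.assoc, lift_fst, lift_fst, lift_fst]
    · rw [Category.assoc, lift_snd, lift_snd, lift_snd_assoc]
      rfl
  rw [Bilin.ev, h2, pl_comp]
  have h3 : pl (lift (fst A U) (snd A U ≫ g)) c = 1 := by
    have h4 := h1
    rw [XTmap_eq] at h4
    exact h4
  rw [h3, pl, map_one]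

include hφ hξ in
theorem pull_XTmap_pow (n : ℕ) : pull (PicF.XTmap A.hom (𝟙 At ^ n)) c = c ^ n := by
  have h := ev_pow_right (A := A) (B := At) c (ev_id_one hφ c hξ) (ev_one_id c hξ) (fst A At) (snd A At) n
  rw [XTmap_eq, MonObj.comp_pow, Category.comp_id]
  refine Eq.trans h ?_
  congr 1
  rw [Bilin.ev, lift_fst_snd, pl]
  exact pull_id c

include hφ hξ in
theorem pull_bcMap_pow (n : ℕ) : pull (AbDual.bcMap (𝟙 A ^ n) At) c = c ^ n := by
  have h := ev_pow_left (A := A) (B := At) c (ev_id_one hφ c hξ) (ev_one_id c hξ) (fst A At) (snd A At) n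
  rw [bcMap_eq, MonObj.comp_pow, Category.comp_id]
  refine Eq.trans h ?_
  congr 1
  rw [Bilin.ev, lift_fst_snd, pl]
  exact pull_id c

include hφ hξ in
theorem pull_XTmap_inv : pull (PicF.XTmap A.hom (𝟙 At)⁻¹) c * c = 1 := by
  have h := ev_inv_right (A := A) (B := At) c (ev_id_one hφ c hξ) (ev_one_id c hξ) (fst A At) (snd A At)
  rw [XTmap_eq, GrpObj.comp_inv, Category.comp_id]
  refine Eq.trans ?_ h
  congr 1
  rw [Bilin.ev, lift_fst_snd, pl]
  exact (pull_id c).symm

include hφ hξ in
theorem pull_bcMap_inv : pull (AbDual.bcMap (𝟙 A)⁻¹ At) c * c = 1 := by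
  have h := ev_inv_left (A := A) (B := At) c (ev_id_one hφ c hξ) (ev_one_id c hξ) (fst A At) (snd A At)
  rw [bcMap_eq, GrpObj.comp_inv, Category.comp_id]
  refine Eq.trans ?_ h
  congr 1
  rw [Bilin.ev, lift_fst_snd, pl]
  exact (pull_id c).symm

end

end K523.Poinc
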