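import Mathlib.LinearAlgebra.Charpoly.Basic
import Mathlib.NumberTheory.Padics.PadicIntegers
import Mathlib.Analysis.Complex.Polynomial.Basic

/-!
# Integral polynomials mapping to a characteristic polynomial over the `l`-adic integers
-/

set_option autoImplicit false

namespace K523.PolyZ

variable (l : ℕ) [Fact l.Prime]

theorem injective_intCast : Function.Injective (Int.castRingHom ℤ_[l]) := Int.cast_injective

variable {M : Type*} [AddCommGroup M] [Module ℤ_[l] M] [Module.Free ℤ_[l] M] [Module.Finite ℤ_[l] M]
  (φ : Module.End ℤ_[l] M) (P : Polynomial ℤ)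

theorem monic_of_map_eq_charpoly (hP : LinearMap.charpoly φ = P.map (Int.castRingHom ℤ_[l])) : P.Monic := by
  have h1 : (P.map (Int.castRingHom ℤ_[l])).Monic := hP ▸ LinearMap.charpoly_monic φ
  have h2 : (Int.castRingHom ℤ_[l]) P.leadingCoeff = 1 := by
    rw [← Polynomial.leadingCoeff_map_of_injective (injective_intCast l)]
    exact h1
  exact injective_intCast l (h2.trans (map_one _).symm)

theorem natDegree_of_map_eq_charpoly (hP : LinearMap.charpoly φ = P.map (Int.castRingHom ℤ_[l])) :
    P.natDegree = Module.finrank ℤ_[l] M := by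
  rw [← LinearMap.charpoly_natDegree φ, hP, Polynomial.natDegree_map_eq_of_injective (injective_intCast l)]

omit [Fact l.Prime] in
theorem card_roots_map_complex (P : Polynomial ℤ) :
    Multiset.card (P.map (Int.castRingHom ℂ)).roots = P.natDegree := by
  rw [← (IsAlgClosed.splits (P.map (Int.castRingHom ℂ))).natDegree_eq_card_roots,
    Polynomial.natDegree_map_eq_of_injective (Int.cast_injective (α := ℂ))]

end K523.PolyZ
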