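import Groth.Agent.AbVar.K523.SubGal
import Groth.Agent.AbVar.K523.KerSq
import Groth.Agent.AbVar.K520.Prod
import Groth.Agent.Sga3.H830.AlgGrpAb
import Groth.Agent.Grpsch.KerMul
import Groth.Agent.Grpsch.MulFinFlat
import Groth.Agent.Grpsch.AbBC
import Groth.Agent.Books.AntiAffine

/-!
# Quotients of an abelian variety by Galois-stable finite groups of geometric points

`exists_quot`: `A` an abelian variety over a field `k`, `Ω` an algebraic closure, `K` a subgroup of `A(Ω)` killed by
`n ≥ 1` and stable under `Aut_k(Ω)`. There is an isogeny `q : A ⟶ B` of abelian varieties over `k` (finite, flat,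
surjective) and `v : B ⟶ A` with `q ≫ v = [n]_A`, `v ≫ q = [n]_B`, whose kernel on `Ω`-points is `K`; if `n` is
invertible in `k` then `q` is étale.
-/

set_option autoImplicit false
universe u

open CategoryTheory Limits AlgebraicGeometry MonoidalCategory CartesianMonoidalCategory MonObj GrpObj

namespace K523.Quot

open Groth.Agent K523.GalPts

variable {k Ω : Type u} [Field k] [Field Ω] [Algebra k Ω]

section

variable (A : Over (Spec (CommRingCat.of k))) [GrpObj A] [IsProper A.hom] [GeometricallyIntegral A.hom]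

theorem isAlg : Sga3.H830.AlgGrpAb.IsAlg A := ⟨inferInstance, inferInstance⟩

/-- The quotient of an abelian variety by a closed subgroup is an abelian variety. -/
theorem exists_quotient [IsCommMonObj A] {N : Over (Spec (CommRingCat.of k))} [GrpObj N] (i : N ⟶ A) [IsMonHom i]
    [IsClosedImmersion i.left] :
    ∃ (B : Over (Spec (CommRingCat.of k))) (_ : GrpObj B) (_ : IsCommMonObj B) (q : A ⟶ B),
      IsMonHom q ∧ IsProper B.hom ∧ GeometricallyIntegral B.hom ∧ Flat q.left ∧ Surjective q.left ∧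
      LocallyOfFinitePresentation q.left ∧ QuasiCompact q.left ∧ AlgGrp.IsKernel i q := by
  have hmono : Mono i := by
    have : Mono ((Over.forget _).map i) := inferInstanceAs (Mono i.left)
    exact (Over.forget _).mono_of_mono_map this
  obtain ⟨B, hB, q, hq, ⟨h1, h2, h3⟩, h4, h5⟩ := Sga3.H830.AlgGrpAb.exists_quotient
    (Sga3.H830.AlgGrpAb.isAlg_of_isClosedImmersion i (isAlg A)) (isAlg A) i
  have hqc := Sga3.H830.AlgGrpAb.quasiCompact_left (isAlg A) h5 q
  have hsep : IsSeparated B.hom := Books.AntiAffine.isSeparated_hom B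
  have huc : UniversallyClosed B.hom := by
    have : UniversallyClosed (q.left ≫ B.hom) := by rw [Over.w]; infer_instance
    exact UniversallyClosed.of_comp_surjective q.left B.hom
  have hlft := h5.1
  have hprop : IsProper B.hom := {}
  have hgi : GeometricallyIntegral B.hom := by
    have : GeometricallyIntegral (q.left ≫ B.hom) := by rw [Over.w]; infer_instance
    exact K520.Prod.geometricallyIntegral_of_flat_surjective q.left B.hom
  have hcomm : IsCommMonObj B := isCommMonObj_of_isProper_of_geometricallyIntegral B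
  exact ⟨B, hB, hcomm, q, hq, hprop, hgi, h1, h2, h3, hqc, h4⟩

end

/-- Quotient by a Galois-stable subgroup of the geometric points killed by `n`. -/
theorem exists_quot [IsAlgClosure k Ω] (A : Over (Spec (CommRingCat.of k))) [GrpObj A] [IsCommMonObj A]
    [IsProper A.hom] [GeometricallyIntegral A.hom] (n : ℕ) (hn : 1 ≤ n) (K : Subgroup (SGA7.Pts Ω A))
    (hKn : ∀ x ∈ K, x ^ n = 1) (hK : ∀ (σ : Ω ≃ₐ[k] Ω), ∀ x ∈ K, SGA7.galAct σ x ∈ K) :
    ∃ (B : Over (Spec (CommRingCat.of k))) (_ : GrpObj B) (_ : IsCommMonObj B) (_ : IsProper B.hom)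
      (_ : GeometricallyIntegral B.hom) (q : A ⟶ B) (_ : IsMonHom q) (v : B ⟶ A) (_ : IsMonHom v),
      IsFinite q.left ∧ Flat q.left ∧ Surjective q.left ∧ ((n : k) ≠ 0 → Etale q.left) ∧
      q ≫ v = 𝟙 A ^ n ∧ v ≫ q = 𝟙 B ^ n ∧ ∀ x : SGA7.Pts Ω A, x ≫ q = 1 ↔ x ∈ K := by
  have hmn : IsMonHom (𝟙 A ^ n) := Grpsch.MulFinFlat.isMonHom_id_pow k A n
  obtain ⟨G, hG, ν, hν, hker⟩ := Grpsch.KerMul.exists_kernel (𝟙 A ^ n)
  have hkl : IsPullback ν.left (toUnit G).left (𝟙 A ^ n).left η[A].left := hker.map (Over.forget _)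
  have hfin := Grpsch.MulFinFlat.isFinite k A n hn
  have hu : (toUnit G).left = G.hom := (Over.w (toUnit G)).symm ▸ (by simp)
  have hGfin : IsFinite G.hom := by
    have : IsFinite (toUnit G).left := MorphismProperty.of_isPullback hkl inferInstance
    rwa [hu] at this
  have hone : IsClosedImmersion (η[A] : 𝟙_ (Over (Spec (CommRingCat.of k))) ⟶ A).left := by
    have h1 : IsClosedImmersion ((η[A] : 𝟙_ (Over (Spec (CommRingCat.of k))) ⟶ A).left ≫ A.hom) := by
      rw [Over.w]; exact inferInstanceAs (IsClosedImmersion (𝟙 _))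
    exact IsClosedImmersion.of_comp _ A.hom
  have hνcl : IsClosedImmersion ν.left := MorphismProperty.of_isPullback hkl.flip hone
  -- the subgroup of `G(Ω)`
  let K' : Subgroup (SGA7.Pts Ω G) := K.comap (K521.GeomPts.post ν (SGA7.pt Ω))
  have hK' : ∀ (σ : Ω ≃ₐ[k] Ω), ∀ x ∈ K', SGA7.galAct σ x ∈ K' := fun σ x hx => by
    change (SGA7.specAut σ ≫ x) ≫ ν ∈ K
    rw [Category.assoc]
    exact hK σ _ hx
  obtain ⟨N, hN, j, hj, hjo, hjc, hNK⟩ := SubGal.exists_sub G K' hK'
  have hi : IsMonHom (j ≫ ν) := inferInstance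
  have hicl : IsClosedImmersion (j ≫ ν).left := by rw [Over.comp_left]; infer_instance
  obtain ⟨B, hB, hBc, q, hq, hprop, hgi, h1, h2, h3, h4, h5⟩ := exists_quotient A (j ≫ ν)
  have hNfin : IsFinite N.hom := by
    rw [← Over.w j]; infer_instance
  have hqfin : IsFinite q.left := KerSq.isFinite_of_ker (j ≫ ν) q h5
  have hkill : (j ≫ ν) ≫ (𝟙 A ^ n) = 1 := by
    rw [Category.assoc, hker.w, ← Category.assoc, toUnit_unique (j ≫ toUnit G) (toUnit N), Hom.one_def]
  obtain ⟨v, hv, hqv⟩ := KerSq.exists_desc_hom (j ≫ ν) q h5 (𝟙 A ^ n) hkill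
  have hepi : Epi q := Sga3C.QuotProps.epi_of_flat_surjective q
  refine ⟨B, hB, hBc, hprop, hgi, q, hq, v, hv, hqfin, h1, h2, fun hnk => ?_, hqv, ?_, fun x => ⟨fun hx => ?_, fun hx => ?_⟩⟩
  · have he : Etale (𝟙 A ^ n).left := by
      have := Grpsch.AbBC.etale_zpow A (d := (n : ℤ)) (by simpa using hnk)
      rwa [zpow_natCast] at this
    have hGe : Etale G.hom := by
      have : Etale (toUnit G).left := MorphismProperty.of_isPullback hkl inferInstance
      rwa [hu] at this
    have hNe : Etale N.hom := by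
      rw [← Over.w j]; infer_instance
    exact KerSq.etale_of_ker (j ≫ ν) q h5
  · rw [← cancel_epi q, ← Category.assoc, hqv, MonObj.pow_comp, Category.id_comp, MonObj.comp_pow, Category.comp_id]
  · obtain ⟨z, hz⟩ := KerSq.exists_lift_ker h5 x hx
    have := (hNK (z ≫ j)).2 ⟨z, rfl⟩
    have h6 : (z ≫ j) ≫ ν ∈ K := this
    rwa [Category.assoc, hz] at h6
  · obtain ⟨z, hz⟩ := KerSq.exists_lift_ker hker x (by rw [MonObj.comp_pow, Category.comp_id, hKn x hx])
    have h6 : z ∈ K' := by
      change z ≫ ν ∈ K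
      rwa [hz]
    obtain ⟨y, hy⟩ := (hNK z).1 h6
    rw [← hz, ← hy, Category.assoc, Category.assoc, ← Category.assoc j ν q, h5.w, ← Category.assoc,
      toUnit_unique (y ≫ toUnit N) (toUnit _), Hom.one_def]

end K523.Quot
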