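import Groth.Agent.AbVar.K519.Tate
import Groth.Agent.AbVar.K519.PadicDet

/-!
# The rank of a Tate module from the number of `l`-torsion points
-/

set_option autoImplicit false
universe u
open CategoryTheory MonoidalCategory CartesianMonoidalCategory MonObj AlgebraicGeometry AbDual

namespace K523.RankCard

variable {S : Scheme.{u}} {A : Over S} [GrpObj A] [IsCommMonObj A] (l : ℕ) [Fact l.Prime] (T : Over S)

theorem card_quotient (hdiv : ∀ y : T ⟶ A, ∃ x : T ⟶ A, x ^ l = y) :
    Nat.card (TateMod A l T ⧸ LinearMap.range ((l : ℤ_[l]) • (LinearMap.id : TateMod A l T →ₗ[ℤ_[l]] TateMod A l T))) =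
      Nat.card {x : T ⟶ A // x ^ l = 1} := by
  let N := LinearMap.range ((l : ℤ_[l]) • (LinearMap.id : TateMod A l T →ₗ[ℤ_[l]] TateMod A l T))
  have hN : ∀ t : TateMod A l T, t ∈ N ↔ (t : ℕ → Additive (T ⟶ A)) 1 = 0 := by
    intro t
    rw [K519.Tate.apply_eq_zero_iff]
    constructor
    · rintro ⟨y, rfl⟩
      exact ⟨y, by
        rw [LinearMap.smul_apply, LinearMap.id_apply, K519.Tate.natCast_smul, pow_one]⟩
    · rintro ⟨y, rfl⟩
      exact ⟨y, by
        rw [LinearMap.smul_apply, LinearMap.id_apply, K519.Tate.natCast_smul, pow_one]⟩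
  let f : (TateMod A l T ⧸ N) → {x : T ⟶ A // x ^ l = 1} :=
    Quotient.lift (s := Submodule.quotientRel N)
      (fun t => ⟨((t : ℕ → Additive (T ⟶ A)) 1).toMul, by
        have := t.torsion 1
        rw [pow_one] at this
        exact congrArg Additive.toMul this⟩)
      (fun a b h => by
        have h1 : a - b ∈ N := (Submodule.quotientRel_def N).1 h
        rw [hN, K519.Tate.sub_apply, sub_eq_zero] at h1
        exact Subtype.ext (congrArg Additive.toMul h1))
  refine Nat.card_congr (Equiv.ofBijective f ⟨?_, ?_⟩)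
  · intro a b
    refine Quotient.inductionOn₂' a b fun a b h => ?_
    have h1 : ((a : ℕ → Additive (T ⟶ A)) 1).toMul = ((b : ℕ → Additive (T ⟶ A)) 1).toMul :=
      congrArg Subtype.val h
    refine Quotient.sound' ((Submodule.quotientRel_def N).2 ?_)
    rw [hN, K519.Tate.sub_apply, sub_eq_zero]
    exact Additive.toMul.injective h1
  · rintro ⟨x, hx⟩
    obtain ⟨t, ht⟩ := K519.Tate.exists_apply_eq hdiv 1 x (by rw [pow_one, hx])
    exact ⟨Quotient.mk'' t, Subtype.ext (congrArg Additive.toMul ht)⟩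

theorem finrank_eq_of_card [Module.Free ℤ_[l] (TateMod A l T)] [Module.Finite ℤ_[l] (TateMod A l T)]
    (hdiv : ∀ y : T ⟶ A, ∃ x : T ⟶ A, x ^ l = y) (r : ℕ) (hcard : Nat.card {x : T ⟶ A // x ^ l = 1} = l ^ r) :
    Module.finrank ℤ_[l] (TateMod A l T) = r := by
  classical
  let b := Module.finBasis ℤ_[l] (TateMod A l T)
  let φ : TateMod A l T →ₗ[ℤ_[l]] TateMod A l T := (l : ℤ_[l]) • LinearMap.id
  have hl0 : (l : ℤ_[l]) ≠ 0 := by exact_mod_cast (Fact.out : l.Prime).ne_zero
  have hφ : Function.Injective φ := fun x y h => smul_right_injective _ hl0 h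
  have h1 := K519.PadicDet.card_quotient_range b b φ hφ
  rw [card_quotient l T hdiv, hcard] at h1
  have h2 : (LinearMap.toMatrix b b φ).det = (l : ℤ_[l]) ^ Module.finrank ℤ_[l] (TateMod A l T) := by
    rw [map_smul, LinearMap.toMatrix_id, Matrix.det_smul, Matrix.det_one, _root_.mul_one, Fintype.card_fin]
  have h3 := Nat.pow_right_injective (Fact.out : l.Prime).two_le h1
  rw [h3, h2, PadicInt.valuation_pow, PadicInt.valuation_p, _root_.mul_one]

end K523.RankCard
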