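import Mathlib.Algebra.Polynomial.Roots
import Mathlib.Algebra.Order.Archimedean.Basic
import Mathlib.Algebra.Order.Archimedean.Real.Basic
import Mathlib.Algebra.Polynomial.Splits

/-!
# Counting real roots with an index function

`Φ` a non-zero real polynomial of degree `≤ g`, `idx : ℚ → ℕ` a function which is constant on root-free intervals,
drops at most by the multiplicity across a root, is `g` near `-∞` and `0` near `+∞`. Then all roots of `Φ` are real,
`deg Φ = g` and `idx a` is the number of roots `> a`.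
-/

set_option autoImplicit false

open Polynomial Finset

namespace K523.RootCount

variable (Φ : ℝ[X])

/-- The distinct roots in `(a, b)`. -/
noncomputable def R (a b : ℝ) : Finset ℝ := Φ.roots.toFinset.filter (fun t => a < t ∧ t < b)

/-- The number of roots in `(a, b)`, with multiplicity. -/
noncomputable def M (a b : ℝ) : ℕ := ∑ t ∈ R Φ a b, Φ.rootMultiplicity t

variable {Φ} (hΦ : Φ ≠ 0) (idx : ℚ → ℕ)
  (hA : ∀ a b : ℚ, a < b → Φ.eval (a : ℝ) ≠ 0 → Φ.eval (b : ℝ) ≠ 0 →
    (∀ t : ℝ, (a : ℝ) ≤ t → t ≤ b → Φ.eval t ≠ 0) → idx a = idx b)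
  (hB : ∀ a b : ℚ, a < b → Φ.eval (a : ℝ) ≠ 0 → Φ.eval (b : ℝ) ≠ 0 → ∀ τ : ℝ, (a : ℝ) < τ → τ < b → Φ.eval τ = 0 →
    (∀ t : ℝ, (a : ℝ) ≤ t → t ≤ b → Φ.eval t = 0 → t = τ) → idx a ≤ idx b + Φ.rootMultiplicity τ)

include hΦ in
theorem mem_R {a b t : ℝ} : t ∈ R Φ a b ↔ Φ.eval t = 0 ∧ a < t ∧ t < b := by
  rw [R, Finset.mem_filter, Multiset.mem_toFinset, mem_roots hΦ, IsRoot.def]

include hΦ hA hB in
theorem idx_le (a b : ℚ) (hab : a < b) (ha : Φ.eval (a : ℝ) ≠ 0) (hb : Φ.eval (b : ℝ) ≠ 0) :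
    idx a ≤ idx b + M Φ a b := by
  induction hn : (R Φ a b).card using Nat.strong_induction_on generalizing a with
  | _ n ih =>
    rcases Finset.eq_empty_or_nonempty (R Φ a b) with h0 | h0
    · have h1 : idx a = idx b := by
        refine hA a b hab ha hb fun t hat htb ht => ?_
        have h2 : t ∈ R Φ a b := by
          rw [mem_R hΦ]
          refine ⟨ht, lt_of_le_of_ne hat ?_, lt_of_le_of_ne htb ?_⟩
          · rintro rfl; exact ha ht
          · rintro rfl; exact hb ht
        rw [h0] at h2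
        exact absurd h2 (Finset.notMem_empty t)
      rw [h1]
      exact Nat.le_add_right _ _
    · obtain ⟨τ, hτ, hmin⟩ := Finset.exists_min_image (R Φ a b) id h0
      have hτ' := (mem_R hΦ).1 hτ
      let T : Finset ℝ := insert (b : ℝ) (Φ.roots.toFinset.filter (fun t => τ < t))
      obtain ⟨τ', hτ'T, hmin'⟩ := Finset.exists_min_image T id ⟨_, Finset.mem_insert_self _ _⟩
      have hττ' : τ < τ' := by
        rcases Finset.mem_insert.1 hτ'T with h | h
        · rw [h]; exact hτ'.2.2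
        · exact (Finset.mem_filter.1 h).2
      have hτ'b : τ' ≤ b := hmin' b (Finset.mem_insert_self _ _)
      obtain ⟨c, hc1, hc2⟩ := exists_rat_btwn hττ'
      have hnoroot : ∀ t : ℝ, τ < t → t < τ' → Φ.eval t ≠ 0 := by
        intro t h1 h2 h3
        have h4 : t ∈ T := Finset.mem_insert_of_mem (Finset.mem_filter.2
          ⟨Multiset.mem_toFinset.2 ((mem_roots hΦ).2 h3), h1⟩)
        exact absurd (hmin' t h4) (not_le.2 h2)
      have hc : Φ.eval (c : ℝ) ≠ 0 := hnoroot c hc1 hc2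
      have hac : (a : ℝ) < c := hτ'.2.1.trans hc1
      have hcb : (c : ℝ) < b := hc2.trans_le hτ'b
      have h5 : idx a ≤ idx c + Φ.rootMultiplicity τ := by
        refine hB a c (by exact_mod_cast hac) ha hc τ hτ'.2.1 hc1 hτ'.1 fun t h1 h2 h3 => ?_
        have h1' : (a : ℝ) < t := lt_of_le_of_ne h1 (by rintro rfl; exact ha h3)
        have h4 : t ∈ R Φ a b := (mem_R hΦ).2 ⟨h3, h1', h2.trans_lt hcb⟩
        have h6 : τ ≤ t := hmin t h4
        rcases h6.eq_or_lt with h7 | h7
        · exact h7.symm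
        · exact absurd h3 (hnoroot t h7 (h2.trans_lt hc2))
      have hsplit : R Φ a b = insert τ (R Φ c b) := by
        ext t
        rw [Finset.mem_insert, mem_R hΦ, mem_R hΦ]
        constructor
        · rintro ⟨h1, h2, h3⟩
          have h6 : τ ≤ t := hmin t ((mem_R hΦ).2 ⟨h1, h2, h3⟩)
          rcases h6.eq_or_lt with h7 | h7
          · exact Or.inl h7.symm
          · right
            refine ⟨h1, ?_, h3⟩
            by_contra h8
            rw [not_lt] at h8
            exact hnoroot t h7 (h8.trans_lt hc2) h1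
        · rintro (rfl | ⟨h1, h2, h3⟩)
          · exact hτ'
          · exact ⟨h1, hac.trans h2, h3⟩
      have hτn : τ ∉ R Φ c b := fun h => absurd ((mem_R hΦ).1 h).2.1 (not_lt.2 hc1.le)
      have h6 : idx c ≤ idx b + M Φ c b := by
        refine ih _ ?_ c (by exact_mod_cast hcb) hc rfl
        rw [← hn, hsplit, Finset.card_insert_of_notMem hτn]
        exact Nat.lt_succ_self _
      have h7 : M Φ a b = Φ.rootMultiplicity τ + M Φ c b := by
        rw [M, hsplit, Finset.sum_insert hτn]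
        rfl
      omega

theorem M_le_card (a b : ℝ) : M Φ a b ≤ Multiset.card Φ.roots := by
  rw [← Multiset.toFinset_sum_count_eq, M]
  refine (Finset.sum_le_sum_of_subset (Finset.filter_subset _ _)).trans (le_of_eq ?_)
  exact Finset.sum_congr rfl fun t _ => (count_roots Φ).symm

include hΦ in
theorem M_eq_card_filter (a b : ℝ) (hb : ∀ t, Φ.eval t = 0 → t < b) :
    M Φ a b = Multiset.card (Φ.roots.filter (fun t => a < t)) := by
  classical
  rw [← Multiset.toFinset_sum_count_eq, M, Multiset.toFinset_filter]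
  have h1 : R Φ a b = Φ.roots.toFinset.filter (fun t => a < t) := by
    ext t
    rw [mem_R hΦ, Finset.mem_filter, Multiset.mem_toFinset, mem_roots hΦ, IsRoot.def]
    exact ⟨fun h => ⟨h.1, h.2.1⟩, fun h => ⟨h.1, h.2, hb t h.1⟩⟩
  rw [h1]
  refine Finset.sum_congr rfl fun t ht => ?_
  rw [Multiset.count_filter_of_pos (p := fun t => a < t) (Finset.mem_filter.1 ht).2, count_roots]

include hΦ in
theorem M_add (a c b : ℝ) (hac : a < c) (hcb : c < b) (hc : Φ.eval c ≠ 0) : M Φ a c + M Φ c b = M Φ a b := by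
  rw [M, M, M, ← Finset.sum_union]
  · congr 1
    ext t
    rw [Finset.mem_union, mem_R hΦ, mem_R hΦ, mem_R hΦ]
    constructor
    · rintro (⟨h1, h2, h3⟩ | ⟨h1, h2, h3⟩)
      · exact ⟨h1, h2, h3.trans hcb⟩
      · exact ⟨h1, hac.trans h2, h3⟩
    · rintro ⟨h1, h2, h3⟩
      rcases lt_trichotomy t c with h | h | h
      · exact Or.inl ⟨h1, h2, h⟩
      · rw [h] at h1; exact absurd h1 hc
      · exact Or.inr ⟨h1, h, h3⟩
  · rw [Finset.disjoint_left]
    intro t h1 h2
    exact absurd ((mem_R hΦ).1 h1).2.2 (not_lt.2 ((mem_R hΦ).1 h2).2.1.le)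

include hΦ hA hB in
/-- The conclusion. -/
theorem main (g : ℕ) (hdeg : Φ.natDegree ≤ g) (a₀ b₀ : ℚ) (ha₀ : Φ.eval (a₀ : ℝ) ≠ 0) (hb₀ : Φ.eval (b₀ : ℝ) ≠ 0)
    (hia : idx a₀ = g) (hib : idx b₀ = 0) (hroot : ∀ t : ℝ, Φ.eval t = 0 → t < b₀)
    (a : ℚ) (haa : a₀ < a) (hab : a < b₀) (ha : Φ.eval (a : ℝ) ≠ 0) :
    Multiset.card Φ.roots = Φ.natDegree ∧ idx a = Multiset.card (Φ.roots.filter (fun t => (a : ℝ) < t)) := by
  have h1 := idx_le hΦ idx hA hB a₀ a haa ha₀ ha
  have h2 := idx_le hΦ idx hA hB a b₀ hab ha hb₀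
  have h3 := M_add (Φ := Φ) hΦ a₀ a b₀ (by exact_mod_cast haa) (by exact_mod_cast hab) ha
  have h4 := M_le_card (Φ := Φ) a₀ b₀
  have h5 := card_roots' Φ
  have h6 := M_eq_card_filter (Φ := Φ) hΦ a b₀ hroot
  rw [hia] at h1
  rw [hib] at h2
  constructor
  · omega
  · omega

end K523.RootCount
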