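import Groth.Agent.AbVar.K523.SymInt
import Groth.Agent.AbVar.K523.FunEq
import Mathlib.Analysis.SpecialFunctions.Log.Basic
import Mathlib.Analysis.Real.Sqrt
import Mathlib.RingTheory.IntegralClosure.IntegrallyClosed
import Mathlib.RingTheory.Polynomial.RationalRoot

/-!
# Serre's refinement of the Hasse–Weil bound

For a monic integral polynomial `P` of degree `2g` all of whose complex roots have absolute value `√q`:
`|nextCoeff P| ≤ g ⌊2 √q⌋`, with equality only for `P = (X² ∓ ⌊2√q⌋ X + q)^g`.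
-/

set_option autoImplicit false

open Polynomial

namespace K523.Serre

theorem card_le_sum {n : ℕ} (y : Fin n → ℝ) (hy : ∀ i, 0 < y i) (hprod : 1 ≤ ∏ i, y i) :
    (n : ℝ) ≤ ∑ i, y i ∧ (∑ i, y i = n → ∀ i, y i = 1) := by
  have h1 : ∀ i, 0 ≤ y i - 1 - Real.log (y i) := fun i => by
    have := Real.log_le_sub_one_of_pos (hy i)
    linarith
  have h2 : 0 ≤ ∑ i, Real.log (y i) := by
    rw [← Real.log_prod (fun i _ => (hy i).ne')]
    exact Real.log_nonneg hprod
  have h3 : ∑ i, (y i - 1 - Real.log (y i)) = ∑ i, y i - n - ∑ i, Real.log (y i) := by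
    rw [Finset.sum_sub_distrib, Finset.sum_sub_distrib]
    simp
  have h4 : 0 ≤ ∑ i, (y i - 1 - Real.log (y i)) := Finset.sum_nonneg fun i _ => h1 i
  refine ⟨by linarith, fun h i => ?_⟩
  have h5 : ∑ i, (y i - 1 - Real.log (y i)) = 0 := by linarith
  have h6 := (Finset.sum_eq_zero_iff_of_nonneg fun i _ => h1 i).1 h5 i (Finset.mem_univ i)
  by_contra hne
  have := Real.log_lt_sub_one_of_pos (hy i) hne
  linarith

section

variable (P : ℤ[X]) (hP : P.Monic) (g : ℕ) (hdeg : P.natDegree = 2 * g) (q : ℕ) (hq : 0 < q)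
  (habs : ∀ α ∈ (P.map (Int.castRingHom ℂ)).roots, ‖α‖ = Real.sqrt q)

include hP in
theorem isIntegral_root (α : ℂ) (hα : α ∈ (P.map (Int.castRingHom ℂ)).roots) : IsIntegral ℤ α :=
  ⟨P, hP, by
    have := (mem_roots (hP.map (Int.castRingHom ℂ)).ne_zero).1 hα
    rw [IsRoot.def, eval_map] at this
    exact this⟩

include hP in
theorem conj_mem_roots (α : ℂ) (hα : α ∈ (P.map (Int.castRingHom ℂ)).roots) :
    (starRingEnd ℂ) α ∈ (P.map (Int.castRingHom ℂ)).roots := by
  have h1 := (mem_roots (hP.map (Int.castRingHom ℂ)).ne_zero).1 hα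
  rw [mem_roots (hP.map (Int.castRingHom ℂ)).ne_zero, IsRoot.def]
  rw [IsRoot.def] at h1
  have h2 : (P.map (Int.castRingHom ℂ)).map (starRingEnd ℂ) = P.map (Int.castRingHom ℂ) := by
    rw [map_map]; congr 1; exact RingHom.ext_int _ _
  rw [← h2, eval_map_apply, h1, map_zero]

include hP habs hq in
/-- The product `∏ (c - ε (α + conj α))` is an integer. -/
theorem exists_int_prod {n : ℕ} (a : Fin n → ℂ) (ha : (P.map (Int.castRingHom ℂ)).roots = Finset.univ.val.map a)
    (c ε : ℤ) : ∃ z : ℤ, ∏ i, ((c : ℝ) - ε * (2 * (a i).re)) = z := by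
  have hai : ∀ i, a i ∈ (P.map (Int.castRingHom ℂ)).roots := fun i => by
    rw [ha, Multiset.mem_map]
    exact ⟨i, Finset.mem_univ_val i, rfl⟩
  have ha0 : ∀ i, a i ≠ 0 := by
    intro i hi
    have h1 := habs _ (hai i)
    rw [hi, norm_zero] at h1
    have h2 : (0 : ℝ) < q := by exact_mod_cast hq
    exact (Real.sqrt_pos.2 h2).ne h1
  have hconj : ∀ i, (starRingEnd ℂ) (a i) = q / a i := by
    intro i
    rw [eq_div_iff (ha0 i), ← Complex.normSq_eq_conj_mul_self, Complex.normSq_eq_norm_sq, habs _ (hai i),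
      Real.sq_sqrt (Nat.cast_nonneg _)]
    simp
  have hre : ∀ i, (((c : ℝ) - ε * (2 * (a i).re) : ℝ) : ℂ) = c - ε * (a i + (starRingEnd ℂ) (a i)) := by
    intro i
    rw [Complex.add_conj]
    push_cast
    ring
  -- the integral symmetric function
  obtain ⟨z₁, hz₁⟩ := SymInt.exists_int P hP a ha
    (∏ i, (MvPolynomial.C c * MvPolynomial.X i - MvPolynomial.C ε * (MvPolynomial.X i ^ 2 + MvPolynomial.C (q : ℤ))))
    (fun e => by
      rw [map_prod]
      refine Fintype.prod_equiv e _ _ fun i => ?_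
      simp)
  obtain ⟨z₂, hz₂⟩ := SymInt.exists_int P hP a ha (∏ i, MvPolynomial.X i) (fun e => by
      rw [map_prod]
      refine Fintype.prod_equiv e _ _ fun i => ?_
      simp)
  rw [map_prod] at hz₁ hz₂
  simp only [map_sub, map_mul, map_add, map_pow, MvPolynomial.aeval_X, MvPolynomial.aeval_C] at hz₁ hz₂
  have hz₂0 : (z₂ : ℂ) ≠ 0 := by
    rw [← hz₂]
    exact Finset.prod_ne_zero_iff.2 fun i _ => ha0 i
  have hY : ((∏ i, ((c : ℝ) - ε * (2 * (a i).re)) : ℝ) : ℂ) = (z₁ : ℂ) / z₂ := by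
    rw [eq_div_iff hz₂0, ← hz₂, ← hz₁, Complex.ofReal_prod, ← Finset.prod_mul_distrib]
    refine Finset.prod_congr rfl fun i _ => ?_
    rw [hre, hconj]
    have := ha0 i
    field_simp
    simp
    ring
  -- integrality
  have hint : IsIntegral ℤ ((∏ i, ((c : ℝ) - ε * (2 * (a i).re)) : ℝ) : ℂ) := by
    rw [Complex.ofReal_prod]
    refine IsIntegral.prod _ fun i _ => ?_
    rw [hre]
    refine (isIntegral_algebraMap (R := ℤ) (A := ℂ) (x := c)).sub
      ((isIntegral_algebraMap (R := ℤ) (A := ℂ) (x := ε)).mul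
      ((isIntegral_root P hP _ (hai i)).add (isIntegral_root P hP _ (conj_mem_roots P hP _ (hai i)))))
  rw [hY] at hint
  have hint' : IsIntegral ℤ ((z₁ : ℚ) / z₂) := by
    rw [← isIntegral_algebraMap_iff (algebraMap ℚ ℂ).injective]
    simpa using hint
  obtain ⟨z, hz⟩ := IsIntegrallyClosed.isIntegral_iff.1 hint'
  refine ⟨z, ?_⟩
  have h3 : ((∏ i, ((c : ℝ) - ε * (2 * (a i).re)) : ℝ) : ℂ) = ((z : ℝ) : ℂ) := by
    rw [hY]
    have h4 := congrArg (fun r : ℚ => (r : ℂ)) hz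
    simp at h4
    rw [← h4]
    simp
  exact_mod_cast h3

include hdeg in
theorem exists_enum : ∃ (n : ℕ) (_ : n = 2 * g) (a : Fin n → ℂ),
    (P.map (Int.castRingHom ℂ)).roots = Finset.univ.val.map a := by
  obtain ⟨a, ha⟩ := FunEq.exists_enum (P.map (Int.castRingHom ℂ)).roots
  refine ⟨_, ?_, a, ha⟩
  rw [← (IsAlgClosed.splits (P.map (Int.castRingHom ℂ))).natDegree_eq_card_roots,
    natDegree_map_eq_of_injective (Int.cast_injective (α := ℂ)), hdeg]

include hP hq habs in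
theorem bound_aux {n : ℕ} (hn : n = 2 * g) (a : Fin n → ℂ)
    (ha : (P.map (Int.castRingHom ℂ)).roots = Finset.univ.val.map a) (ε : ℤ) (hε : ε = 1 ∨ ε = -1) :
    (ε * (-P.nextCoeff : ℝ)) ≤ g * (⌊2 * Real.sqrt q⌋ : ℝ) ∧
      ((ε * (-P.nextCoeff : ℝ)) = g * (⌊2 * Real.sqrt q⌋ : ℝ) →
        ∀ i, 2 * (a i).re = ε * (⌊2 * Real.sqrt q⌋ : ℝ)) := by
  set m : ℤ := ⌊2 * Real.sqrt q⌋ with hm
  have hai : ∀ i, a i ∈ (P.map (Int.castRingHom ℂ)).roots := fun i => by
    rw [ha, Multiset.mem_map]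
    exact ⟨i, Finset.mem_univ_val i, rfl⟩
  have hm1 : 2 * Real.sqrt q < m + 1 := Int.lt_floor_add_one _
  have hpos : ∀ i, 0 < (((m + 1 : ℤ) : ℝ) - ε * (2 * (a i).re)) := by
    intro i
    have h1 : |(a i).re| ≤ Real.sqrt q := (Complex.abs_re_le_norm (a i)).trans_eq (habs _ (hai i))
    have h2 := abs_le.1 h1
    push_cast
    rcases hε with rfl | rfl
    · push_cast
      linarith [h2.2]
    · push_cast
      linarith [h2.1]
  obtain ⟨z, hz⟩ := exists_int_prod P hP q hq habs a ha (m + 1) ε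
  have hz1 : (1 : ℝ) ≤ ∏ i, (((m + 1 : ℤ) : ℝ) - ε * (2 * (a i).re)) := by
    have h3 : 0 < ∏ i, (((m + 1 : ℤ) : ℝ) - ε * (2 * (a i).re)) := Finset.prod_pos fun i _ => hpos i
    rw [hz] at h3 ⊢
    exact_mod_cast h3
  obtain ⟨h4, h5⟩ := card_le_sum _ hpos hz1
  have hsum : ((P.nextCoeff : ℤ) : ℝ) = -∑ i, (a i).re := by
    have h6 := (IsAlgClosed.splits (P.map (Int.castRingHom ℂ))).nextCoeff_eq_neg_sum_roots_of_monic (hP.map _)
    rw [nextCoeff_map (Int.cast_injective (α := ℂ)), ha] at h6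
    have h7 := congrArg Complex.re h6
    rw [Complex.neg_re] at h7
    have h8 : (Multiset.map a Finset.univ.val).sum = ∑ i, a i := rfl
    rw [h8, Complex.re_sum] at h7
    simpa using h7
  have hs : ∑ i, (((m + 1 : ℤ) : ℝ) - ε * (2 * (a i).re)) = n * (m + 1) - 2 * (ε * (-P.nextCoeff : ℝ)) := by
    rw [Finset.sum_sub_distrib, hsum, neg_neg, Finset.mul_sum, Finset.mul_sum, Finset.sum_const, Finset.card_univ,
      Fintype.card_fin, nsmul_eq_mul]
    push_cast
    congr 1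
    exact Finset.sum_congr rfl fun i _ => by ring
  rw [hs] at h4 h5
  have hnr : (n : ℝ) = 2 * g := by exact_mod_cast hn
  rw [hnr] at h4
  refine ⟨by linarith, fun h => ?_⟩
  have h9 := h5 (by rw [h, hnr]; ring)
  intro i
  have h10 := h9 i
  push_cast at h10
  have hε2 : (ε : ℝ) * ε = 1 := by rcases hε with rfl | rfl <;> norm_num
  calc 2 * (a i).re = (ε * ε) * (2 * (a i).re) := by rw [hε2, one_mul]
    _ = ε * (ε * (2 * (a i).re)) := by ring
    _ = ε * m := by rw [show (ε : ℝ) * (2 * (a i).re) = m by linarith]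

include hP hdeg hq habs in
theorem abs_nextCoeff_le : |(P.nextCoeff : ℝ)| ≤ g * (⌊2 * Real.sqrt q⌋ : ℝ) := by
  obtain ⟨n, hn, a, ha⟩ := exists_enum P g hdeg
  have h1 := (bound_aux P hP g q hq habs hn a ha 1 (Or.inl rfl)).1
  have h2 := (bound_aux P hP g q hq habs hn a ha (-1) (Or.inr rfl)).1
  rw [abs_le]
  push_cast at h1 h2
  constructor <;> linarith

include hP hdeg hq habs in
theorem eq_pow_of_eq (ε : ℤ) (hε : ε = 1 ∨ ε = -1)
    (h : (ε * (-P.nextCoeff : ℝ)) = g * (⌊2 * Real.sqrt q⌋ : ℝ)) :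
    P = (X ^ 2 - C (ε * ⌊2 * Real.sqrt q⌋) * X + C (q : ℤ)) ^ g := by
  set m : ℤ := ⌊2 * Real.sqrt q⌋ with hm
  obtain ⟨n, hn, a, ha⟩ := exists_enum P g hdeg
  have hai : ∀ i, a i ∈ (P.map (Int.castRingHom ℂ)).roots := fun i => by
    rw [ha, Multiset.mem_map]
    exact ⟨i, Finset.mem_univ_val i, rfl⟩
  have h1 := (bound_aux P hP g q hq habs hn a ha ε hε).2 h
  have hQ : (X ^ 2 - C (ε * m) * X + C (q : ℤ) : ℤ[X]) = X ^ 2 + (-(C (ε * m) * X) + C (q : ℤ)) := by ring
  have hQm : (X ^ 2 - C (ε * m) * X + C (q : ℤ) : ℤ[X]).Monic := by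
    rw [hQ]
    refine monic_X_pow_add ?_
    refine (degree_add_le _ _).trans_lt (max_lt ?_ ?_)
    · rw [degree_neg]
      exact (degree_C_mul_X_le _).trans_lt (by norm_num)
    · exact (degree_C_le).trans_lt (by norm_num)
  have hPa : P.map (Int.castRingHom ℂ) = ∏ i, (X - C (a i)) := by
    have h2 := (IsAlgClosed.splits (P.map (Int.castRingHom ℂ))).eq_prod_roots_of_monic (hP.map _)
    rw [h2, ha, Multiset.map_map]
    rfl
  have hPc : P.map (Int.castRingHom ℂ) = ∏ i, (X - C ((starRingEnd ℂ) (a i))) := by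
    have h2 : (P.map (Int.castRingHom ℂ)).map (starRingEnd ℂ) = P.map (Int.castRingHom ℂ) := by
      rw [map_map]; congr 1; exact RingHom.ext_int _ _
    conv_lhs => rw [← h2, hPa, Polynomial.map_prod]
    simp
  have hsq : (P.map (Int.castRingHom ℂ)) ^ 2 =
      (((X ^ 2 - C (ε * m) * X + C (q : ℤ) : ℤ[X]) ^ g).map (Int.castRingHom ℂ)) ^ 2 := by
    rw [Polynomial.map_pow, ← pow_mul, mul_comm g 2, ← hn, sq]
    conv_lhs =>
      arg 1
      rw [hPa]
    conv_lhs =>
      arg 2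
      rw [hPc]
    rw [← Finset.prod_mul_distrib]
    rw [Finset.prod_congr rfl (g := fun _ => (X ^ 2 - C (ε * m) * X + C (q : ℤ) : ℤ[X]).map (Int.castRingHom ℂ))]
    · simp
    · intro i _
      have h3 : (X - C (a i)) * (X - C ((starRingEnd ℂ) (a i))) =
          X ^ 2 - C (a i + (starRingEnd ℂ) (a i)) * X + C (a i * (starRingEnd ℂ) (a i)) := by
        rw [C_add, C_mul]; ring
      have h4 : a i * (starRingEnd ℂ) (a i) = (q : ℂ) := by
        rw [mul_comm, ← Complex.normSq_eq_conj_mul_self, Complex.normSq_eq_norm_sq, habs _ (hai i),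
          Real.sq_sqrt (Nat.cast_nonneg _)]
        simp
      have h5 : a i + (starRingEnd ℂ) (a i) = ((ε * m : ℤ) : ℂ) := by
        rw [Complex.add_conj, h1 i]
        push_cast
        rfl
      rw [h3, h4, h5]
      simp
  rcases sq_eq_sq_iff_eq_or_eq_neg.1 hsq with h6 | h6
  · exact map_injective _ (Int.cast_injective (α := ℂ)) h6
  · exfalso
    have h7 := congrArg leadingCoeff h6
    rw [leadingCoeff_neg, (hP.map (Int.castRingHom ℂ)).leadingCoeff,
      ((hQm.pow g).map (Int.castRingHom ℂ)).leadingCoeff] at h7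
    norm_num at h7

include hP hdeg hq habs in
theorem abs_nextCoeff_eq_iff : |(P.nextCoeff : ℝ)| = g * (⌊2 * Real.sqrt q⌋ : ℝ) ↔
    (P = (X ^ 2 - C ⌊2 * Real.sqrt q⌋ * X + C (q : ℤ)) ^ g ∨ P = (X ^ 2 + C ⌊2 * Real.sqrt q⌋ * X + C (q : ℤ)) ^ g) := by
  have hm0 : (0 : ℝ) ≤ ⌊2 * Real.sqrt q⌋ := by
    exact_mod_cast Int.floor_nonneg.2 (by positivity)
  constructor
  · intro h
    rcases abs_choice (P.nextCoeff : ℝ) with h1 | h1
    · right
      have := eq_pow_of_eq P hP g hdeg q hq habs (-1) (Or.inr rfl) (by rw [← h, h1]; push_cast; ring)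
      rw [neg_one_mul, C_neg, neg_mul, sub_neg_eq_add] at this
      exact this
    · left
      have := eq_pow_of_eq P hP g hdeg q hq habs 1 (Or.inl rfl) (by rw [← h, h1]; push_cast; ring)
      rwa [one_mul] at this
  · have key : ∀ c : ℤ, ((X ^ 2 + C c * X + C (q : ℤ) : ℤ[X]) ^ g).nextCoeff = g * c := by
      intro c
      have hd : (C c * X + C (q : ℤ) : ℤ[X]).degree < (2 : ℕ) := by
        refine (degree_add_le _ _).trans_lt (max_lt ?_ ?_)
        · exact (degree_C_mul_X_le _).trans_lt (by norm_num)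
        · exact (degree_C_le).trans_lt (by norm_num)
      have hmon : (X ^ 2 + C c * X + C (q : ℤ) : ℤ[X]).Monic := by
        rw [add_assoc]
        exact monic_X_pow_add hd
      have hnd : (X ^ 2 + C c * X + C (q : ℤ) : ℤ[X]).natDegree = 2 := by
        rw [add_assoc]
        refine natDegree_eq_of_degree_eq_some ?_
        rw [degree_add_eq_left_of_degree_lt (by rw [degree_X_pow]; exact hd), degree_X_pow]
      rw [hmon.nextCoeff_pow, nextCoeff_of_natDegree_pos (by rw [hnd]; norm_num), hnd, nsmul_eq_mul]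
      congr 1
      simp [coeff_X_pow]
    rintro (h | h)
    · have h1 := key (-⌊2 * Real.sqrt q⌋)
      rw [C_neg, neg_mul, ← sub_eq_add_neg, ← h] at h1
      rw [h1]
      push_cast
      rw [mul_neg, abs_neg, abs_of_nonneg (by positivity)]
    · have h1 := key (⌊2 * Real.sqrt q⌋)
      rw [← h] at h1
      rw [h1]
      push_cast
      rw [abs_of_nonneg (by positivity)]

end

end K523.Serre
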