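import Groth.Agent.AbVar.K523.GalPts
import Groth.Agent.Sga3C.SubGrp
import Mathlib.AlgebraicGeometry.Artinian
import Mathlib.AlgebraicGeometry.Morphisms.Etale

/-!
# Galois-stable subgroups of the `Ω`-points of a finite group scheme

`exists_sub`: `G` a finite group scheme over a field `k`, `K` a subgroup of `G(Ω)` stable under `Aut_k(Ω)`: there is an
open and closed subgroup scheme `n : N ⟶ G` with `N(Ω) = K`.
-/

set_option autoImplicit false
universe u

open CategoryTheory Limits AlgebraicGeometry MonoidalCategory CartesianMonoidalCategory MonObj GrpObj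

namespace K523.SubGal

open K523.GalPts

variable {k Ω : Type u} [Field k] [Field Ω] [Algebra k Ω]

/-- The points of a `k`-scheme which are images of elements of a set of `Ω`-points. -/
def img {G : Over (Spec (CommRingCat.of k))} (K : Set (SGA7.Pts Ω G)) : Set G.left :=
  {z | ∃ x ∈ K, x.left (pt0 Ω) = z}

theorem mem_of_mem_img [IsAlgClosure k Ω] {G : Over (Spec (CommRingCat.of k))} (K : Set (SGA7.Pts Ω G))
    (hK : ∀ (σ : Ω ≃ₐ[k] Ω), ∀ x ∈ K, SGA7.galAct σ x ∈ K) (y : SGA7.Pts Ω G)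
    (hy : y.left (pt0 Ω) ∈ img K) : y ∈ K := by
  obtain ⟨x, hx, hxy⟩ := hy
  obtain ⟨σ, hσ⟩ := exists_galAct_eq x y hxy
  rw [← hσ]
  exact hK σ x hx

section

variable {G : Over (Spec (CommRingCat.of k))}

/-- A morphism factors through an open subscheme if its image does. -/
theorem exists_fac (U : G.left.Opens) {T : Over (Spec (CommRingCat.of k))} (t : T ⟶ G)
    (h : ∀ z : T.left, t.left z ∈ U) :
    ∃ t' : T ⟶ Over.mk (U.ι ≫ G.hom), t' ≫ (Over.homMk U.ι : Over.mk (U.ι ≫ G.hom) ⟶ G) = t := by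
  have h1 : Set.range t.left ⊆ Set.range U.ι := by
    rintro _ ⟨z, rfl⟩
    simpa using h z
  refine ⟨Over.homMk (IsOpenImmersion.lift U.ι t.left h1) ?_, ?_⟩
  · change IsOpenImmersion.lift U.ι t.left h1 ≫ U.ι ≫ G.hom = T.hom
    rw [IsOpenImmersion.lift_fac_assoc, Over.w]
  · ext1
    exact IsOpenImmersion.lift_fac _ _ _

end

/-- Galois-stable subgroups of the `Ω`-points of a finite group scheme come from open and closed subgroups. -/
theorem exists_sub [IsAlgClosure k Ω] (G : Over (Spec (CommRingCat.of k))) [GrpObj G] [IsFinite G.hom]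
    (K : Subgroup (SGA7.Pts Ω G)) (hK : ∀ (σ : Ω ≃ₐ[k] Ω), ∀ x ∈ K, SGA7.galAct σ x ∈ K) :
    ∃ (N : Over (Spec (CommRingCat.of k))) (_ : GrpObj N) (n : N ⟶ G), IsMonHom n ∧ IsOpenImmersion n.left ∧
      IsClosedImmersion n.left ∧ ∀ x : SGA7.Pts Ω G, x ∈ K ↔ ∃ y : SGA7.Pts Ω N, y ≫ n = x := by
  have hΩ : IsAlgClosed Ω := IsAlgClosure.isAlgClosed k
  have hart : IsArtinianScheme (Spec (CommRingCat.of k)) := inferInstance
  have hG : IsLocallyArtinian G.left := IsLocallyArtinian.of_locallyQuasiFinite G.hom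
  have hGd : DiscreteTopology G.left := inferInstance
  let U : G.left.Opens := ⟨img (K : Set (SGA7.Pts Ω G)), isOpen_discrete _⟩
  let N : Over (Spec (CommRingCat.of k)) := Over.mk (U.ι ≫ G.hom)
  let n : N ⟶ G := Over.homMk U.ι
  have hopen : IsOpenImmersion n.left := inferInstanceAs (IsOpenImmersion U.ι)
  have hmono : Mono n := by
    have : Mono ((Over.forget _).map n) := inferInstanceAs (Mono U.ι)
    exact (Over.forget _).mono_of_mono_map this
  have hclosed : IsClosedImmersion n.left := by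
    refine IsClosedImmersion.of_isPreimmersion _ ?_
    exact isClosed_discrete _
  have hNfin : IsFinite N.hom := by
    have : IsFinite (n.left ≫ G.hom) := inferInstance
    exact this
  -- image of Ω-points of `N`
  have hNpts : ∀ y : SGA7.Pts Ω N, y ≫ n ∈ K := by
    intro y
    refine mem_of_mem_img (K : Set (SGA7.Pts Ω G)) hK _ ?_
    have h1 : (y ≫ n).left (pt0 Ω) = n.left (y.left (pt0 Ω)) := by
      rw [Over.comp_left, Scheme.Hom.comp_apply]
    rw [h1]
    exact (y.left (pt0 Ω)).2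
  -- a criterion to factor through `N`
  have hfac : ∀ (T : Over (Spec (CommRingCat.of k))) [IsFinite T.hom] (t : T ⟶ G),
      (∀ y : SGA7.Pts Ω T, y ≫ t ∈ K) → ∃ t' : T ⟶ N, t' ≫ n = t := by
    intro T _ t ht
    refine exists_fac U t fun z => ?_
    have hT : IsLocallyArtinian T.left := IsLocallyArtinian.of_locallyQuasiFinite T.hom
    have hTd : DiscreteTopology T.left := inferInstance
    obtain ⟨y, rfl⟩ := exists_pts (Ω := Ω) z (isClosed_discrete _)
    refine ⟨y ≫ t, ht y, ?_⟩
    rw [Over.comp_left, Scheme.Hom.comp_apply]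
  have hNN : IsFinite (N ⊗ N).hom := by
    change IsFinite (pullback.fst N.hom N.hom ≫ N.hom)
    infer_instance
  have h1 : IsFinite (𝟙_ (Over (Spec (CommRingCat.of k)))).hom := inferInstanceAs (IsFinite (𝟙 _))
  obtain ⟨hgrp, hn⟩ : ∃ _ : GrpObj N, IsMonHom n := by
    refine Groth.Agent.Sga3C.SubGrp.exists_grpObj_of_mono n ?_ ?_ ?_
    · refine hfac (N ⊗ N) _ fun y => ?_
      have e1 : y ≫ (n ⊗ₘ n) ≫ μ[G] = ((y ≫ fst N N) ≫ n) * ((y ≫ snd N N) ≫ n) := by
        rw [Hom.mul_def, ← Category.assoc]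
        congr 1
        ext <;> simp
      rw [e1]
      exact K.mul_mem (hNpts _) (hNpts _)
    · refine hfac _ _ fun y => ?_
      rw [MonObj.one_eq_one, MonObj.comp_one]
      exact K.one_mem
    · refine hfac _ _ fun y => ?_
      have e1 : y ≫ n ≫ ι[G] = (y ≫ n)⁻¹ := by
        rw [Hom.inv_def, Category.assoc]
      rw [e1]
      exact K.inv_mem (hNpts _)
  refine ⟨N, hgrp, n, hn, hopen, hclosed, fun x => ⟨fun hx => ?_, ?_⟩⟩
  · refine exists_fac U x fun z => ?_
    have : z = pt0 Ω := by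
      have : Subsingleton ↥(Spec (CommRingCat.of Ω)) := inferInstanceAs (Subsingleton (PrimeSpectrum Ω))
      exact @Subsingleton.elim ↥(Spec (CommRingCat.of Ω)) this _ _
    rw [this]
    exact ⟨x, hx, rfl⟩
  · rintro ⟨y, rfl⟩
    exact hNpts y

end K523.SubGal
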