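import Mathlib.RingTheory.MvPolynomial.Symmetric.FundamentalTheorem
import Mathlib.RingTheory.Polynomial.Vieta
import Mathlib.Analysis.Complex.Polynomial.Basic

/-!
# Symmetric functions of the complex roots of a monic integral polynomial

`exists_int`: their values are integers. `exists_wedge`: the polynomial `∏_I (1 - α_I t)` over the `j`-element
sub-multisets `I` of the roots, `α_I` the product, has integral coefficients.
-/

set_option autoImplicit false

open Finset

namespace K523.SymInt

theorem exists_int {n : ℕ} (P : Polynomial ℤ) (hP : P.Monic) (a : Fin n → ℂ)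
    (ha : (P.map (Int.castRingHom ℂ)).roots = univ.val.map a) (F : MvPolynomial (Fin n) ℤ) (hF : F.IsSymmetric) :
    ∃ z : ℤ, MvPolynomial.aeval a F = (z : ℂ) := by
  obtain ⟨G, hG⟩ := MvPolynomial.esymmAlgHom_surjective (σ := Fin n) ℤ (n := n) (Fintype.card_fin n).le ⟨F, hF⟩
  have hG' : F = MvPolynomial.aeval (fun i : Fin n => MvPolynomial.esymm (Fin n) ℤ (i + 1)) G := by
    rw [← MvPolynomial.esymmAlgHom_apply, hG]
  have hmon : (P.map (Int.castRingHom ℂ)).Monic := hP.map _
  have hes : ∀ i : Fin n, ∃ z : ℤ, MvPolynomial.aeval a (MvPolynomial.esymm (Fin n) ℤ (i + 1)) = (z : ℂ) := by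
    intro i
    have hsp : Polynomial.Splits (P.map (Int.castRingHom ℂ)) := IsAlgClosed.splits _
    have hcard : Multiset.card (P.map (Int.castRingHom ℂ)).roots = (P.map (Int.castRingHom ℂ)).natDegree :=
      hsp.natDegree_eq_card_roots.symm
    have hn : (P.map (Int.castRingHom ℂ)).natDegree = n := by
      rw [← hcard, ha]; simp
    have h1 := Polynomial.coeff_eq_esymm_roots_of_card hcard (k := n - (i + 1)) (by omega)
    rw [hn, hmon.leadingCoeff, one_mul, Nat.sub_sub_self (by omega), ha, Polynomial.coeff_map] at h1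
    refine ⟨(-1) ^ ((i : ℕ) + 1) * P.coeff (n - (i + 1)), ?_⟩
    rw [MvPolynomial.aeval_esymm_eq_multiset_esymm]
    push_cast
    rw [show ((P.coeff (n - (i + 1)) : ℤ) : ℂ) = Int.castRingHom ℂ (P.coeff (n - (i + 1))) from rfl, h1, ← mul_assoc,
      ← mul_pow]
    norm_num
  choose z hz using hes
  refine ⟨MvPolynomial.aeval z G, ?_⟩
  rw [hG']
  have h2 : MvPolynomial.aeval a (MvPolynomial.aeval (fun i : Fin n => MvPolynomial.esymm (Fin n) ℤ (i + 1)) G) =
      MvPolynomial.aeval (fun i : Fin n => (z i : ℂ)) G := by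
    rw [← AlgHom.comp_apply, MvPolynomial.comp_aeval]
    simp only [hz]
  rw [h2]
  have h3 := MvPolynomial.map_aeval z (Int.castRingHom ℂ) G
  rw [show ((MvPolynomial.aeval z G : ℤ) : ℂ) = Int.castRingHom ℂ (MvPolynomial.aeval z G) from rfl, h3]
  simp [MvPolynomial.aeval_def]

theorem exists_polynomial {n : ℕ} (P : Polynomial ℤ) (hP : P.Monic) (a : Fin n → ℂ)
    (ha : (P.map (Int.castRingHom ℂ)).roots = univ.val.map a) (F : Polynomial (MvPolynomial (Fin n) ℤ))
    (hF : ∀ e : Equiv.Perm (Fin n), F.map (MvPolynomial.rename e : MvPolynomial (Fin n) ℤ →ₐ[ℤ] _).toRingHom = F) :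
    ∃ Q : Polynomial ℤ, Q.map (Int.castRingHom ℂ) =
      F.map (MvPolynomial.aeval a : MvPolynomial (Fin n) ℤ →ₐ[ℤ] ℂ).toRingHom := by
  have h1 : ∀ m, ∃ z : ℤ, MvPolynomial.aeval a (F.coeff m) = (z : ℂ) := fun m =>
    exists_int P hP a ha (F.coeff m) fun e => by
      have := congrArg (fun G => Polynomial.coeff G m) (hF e)
      simpa using this
  have h2 : F.map (MvPolynomial.aeval a : MvPolynomial (Fin n) ℤ →ₐ[ℤ] ℂ).toRingHom ∈
      Polynomial.lifts (Int.castRingHom ℂ) := by
    rw [Polynomial.lifts_iff_coeff_lifts]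
    intro m
    obtain ⟨z, hz⟩ := h1 m
    refine ⟨z, ?_⟩
    rw [Polynomial.coeff_map]
    exact hz.symm
  exact (Polynomial.mem_lifts _).1 h2

theorem exists_wedge (P : Polynomial ℤ) (hP : P.Monic) (j : ℕ) :
    ∃ Q : Polynomial ℤ, Q.map (Int.castRingHom ℂ) = (((P.map (Int.castRingHom ℂ)).roots.powersetCard j).map
          (fun I => (1 : Polynomial ℂ) - Polynomial.C I.prod * Polynomial.X)).prod := by
  obtain ⟨n, a, ha⟩ : ∃ (n : ℕ) (a : Fin n → ℂ), (P.map (Int.castRingHom ℂ)).roots = univ.val.map a := by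
    let L := (P.map (Int.castRingHom ℂ)).roots.toList
    refine ⟨L.length, fun i => L.get i, ?_⟩
    rw [← Multiset.coe_toList (P.map (Int.castRingHom ℂ)).roots]
    change (L : Multiset ℂ) = _
    simp [Fin.univ_val_map]
  let F : Polynomial (MvPolynomial (Fin n) ℤ) :=
    ∏ I ∈ powersetCard j univ, (1 - Polynomial.C (∏ i ∈ I, MvPolynomial.X i) * Polynomial.X)
  obtain ⟨Q, hQ⟩ := exists_polynomial P hP a ha F (fun e => by
    rw [Polynomial.map_prod]
    refine Finset.prod_bij (fun I _ => I.map e.toEmbedding) ?_ ?_ ?_ ?_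
    · intro I hI
      rw [mem_powersetCard_univ, card_map]
      exact mem_powersetCard_univ.1 hI
    · intro I _ J _ h
      exact Finset.map_injective _ h
    · intro J hJ
      refine ⟨J.map e.symm.toEmbedding, ?_, ?_⟩
      · rw [mem_powersetCard_univ, card_map]
        exact mem_powersetCard_univ.1 hJ
      · ext x; simp
    · intro I _
      simp only [Polynomial.map_sub, Polynomial.map_one, Polynomial.map_mul, Polynomial.map_C, Polynomial.map_X,
        Finset.prod_map]
      congr 3
      change MvPolynomial.rename e (∏ i ∈ I, MvPolynomial.X i) = _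
      rw [map_prod]
      simp)
  refine ⟨Q, ?_⟩
  rw [hQ, Polynomial.map_prod, ha, Multiset.powersetCard_map, Multiset.map_map, Finset.prod]
  have h3 : (powersetCard j (univ : Finset (Fin n))).val = (Multiset.powersetCard j univ.val).pmap Finset.mk
      (fun _t h => Multiset.nodup_of_le (Multiset.mem_powersetCard.1 h).1 univ.nodup) := rfl
  rw [h3, Multiset.map_pmap]
  congr 1
  rw [← Multiset.pmap_eq_map (fun _ => True) _ _ (fun _ _ => trivial)]
  refine Multiset.pmap_congr _ fun I _ _ _ => ?_
  simp only [Polynomial.map_sub, Polynomial.map_one, Polynomial.map_mul, Polynomial.map_C, Polynomial.map_X,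
    Function.comp_apply]
  congr 3
  change MvPolynomial.aeval a (Multiset.map _ I).prod = _
  rw [map_multiset_prod, Multiset.map_map]
  congr 1
  exact Multiset.map_congr rfl fun i _ => by simp

end K523.SymInt
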