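import Groth.Agent.JacVar.K532.ThetaH0
import Groth.Agent.AbVar.K523.ThetaPow
import Groth.Agent.AbVar.K505.JacBase

/-!
# Dimension of the Jacobian and Euler characteristic of the theta line bundle (`k` algebraically closed)
-/

set_option autoImplicit false
universe u

open CategoryTheory CategoryTheory.Limits MonoidalCategory CartesianMonoidalCategory AlgebraicGeometry
open scoped MonObj
open Groth.Agent Groth.Agent.Grpsch.PicGrp K524.Index K524.Chi K524.Kun

namespace K523.ThetaJ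

variable {k : Type u} [Field k] [IsAlgClosed k] {C : Scheme.{u}} [C.Over (Spec (CommRingCat.of k))]
  [IsProper (C ↘ Spec (CommRingCat.of k))] [Smooth (C ↘ Spec (CommRingCat.of k))]
  [GeometricallyConnected (C ↘ Spec (CommRingCat.of k))]

theorem dim_eq (hdim : topologicalKrullDim ↥C = 1) (g : ℕ) (hg : Curv2.genus k C = g)
    {σ : Spec (CommRingCat.of k) ⟶ C} {hσ : σ ≫ (C ↘ Spec (CommRingCat.of k)) = 𝟙 (Spec (CommRingCat.of k))}
    {J : Over (Spec (CommRingCat.of k))} [GrpObj J] [Smooth J.hom]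
    {ξ : Pic (PicF.XT (C ↘ Spec (CommRingCat.of k)) J)}
    (h : Sga7.H732.Hedge.IsJac (C ↘ Spec (CommRingCat.of k)) σ hσ J ξ) : topologicalKrullDim J.left = g := by
  let X : Over (Spec (CommRingCat.of k)) := Over.mk (C ↘ Spec (CommRingCat.of k))
  have hX := K532.Base.isSmoothProperCurve (C ↘ Spec (CommRingCat.of k)) hdim
  have hgi : GeometricallyIntegral X.hom := K532.Base.geometricallyIntegral (C ↘ Spec (CommRingCat.of k))
  let _ : X.left.Over (Spec (CommRingCat.of k)) := ‹C.Over (Spec (CommRingCat.of k))›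
  have h1 := K505.JacBase.dim_jac (X := X) hX rfl σ hσ J ξ h
  rw [h1, ← hg]
  rfl

/-- The Euler characteristic of the theta line bundle is one. -/
theorem chi_eq_one (hdim : topologicalKrullDim ↥C = 1) {J : Over (Spec (CommRingCat.of k))} [GrpObj J] [IsCommMonObj J]
    {ψ : (ModFun.PicDeg (C ↘ Spec (CommRingCat.of k)) 0).Hom ⊤ J}
    (hJ : Jac.IsJacobian (C ↘ Spec (CommRingCat.of k)) ⊤ J ψ)
    (g : ℕ) (hg : Curv2.genus k C = g) (hg1 : 1 ≤ g)
    (N : C.Modules) (hN : PicF.IsInvertible N) (hNdeg : Curv2.deg k C N 1 = (g : ℤ) - 1)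
    (ΘJ : J.left.Modules) (hΘJ : Jac.IsThetaLB (C ↘ Spec (CommRingCat.of k)) 0 ψ N ΘJ) [IsProper J.hom]
    [GeometricallyIntegral J.hom] (hd : topologicalKrullDim J.left = g) (ha : CohB1.IsAmple ΘJ) :
    chi (mk ΘJ ha.1) = 1 := by
  rw [K524.Bc.chi_eq ha.1 (K523.ThetaPow.ample_idx g hd ΘJ ha), pow_zero, _root_.one_mul]
  have h1 := K532.ThetaH0.theta_h0 hdim hJ g hg hg1 N hN hNdeg ΘJ hΘJ
  exact_mod_cast h1

end K523.ThetaJ
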