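import Groth.Agent.Zeta.K466.LogD
import Mathlib.RingTheory.Polynomial.Vieta
import Mathlib.Algebra.Order.Ring.Star
import Mathlib.Data.Int.Star

/-!
# Exterior powers and the zeta function

`mul_prod_even_eq`: a power series `Z` with constant term `1` and logarithmic derivative `∑ N_m t^m`,
`N_m = ∏ (1 - α_i^m)`, satisfies `Z ∏_{j even} P_j = ∏_{j odd} P_j`, `P_j = ∏_{|I| = j} (1 - α_I t)`.
-/

set_option autoImplicit false

open PowerSeries Groth.Agent.MiscA.ZetaAbsCx

namespace K523.WedgeZeta

variable {R : Type*} [CommRing R]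

/-- `∏_{c ∈ s} (1 - c t)`. -/
noncomputable def rec (s : Multiset R) : Polynomial R :=
  (s.map (fun c => (1 : Polynomial R) - Polynomial.C c * Polynomial.X)).prod

theorem coe_one_sub (c : R) : (((1 : Polynomial R) - Polynomial.C c * Polynomial.X : Polynomial R) : R⟦X⟧) =
    1 - C c * X := by
  rw [Polynomial.coe_sub, Polynomial.coe_one, Polynomial.coe_mul, Polynomial.coe_C, Polynomial.coe_X]

theorem rec_cons (c : R) (s : Multiset R) :
    rec (c ::ₘ s) = (1 - Polynomial.C c * Polynomial.X) * rec s := by
  rw [rec, Multiset.map_cons, Multiset.prod_cons]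
  rfl

theorem logD_rec (s : Multiset R) : LogD (rec s : R⟦X⟧)
    (mk fun n => if n = 0 then 0 else - (s.map (fun c => c ^ n)).sum) := by
  induction s using Multiset.induction_on with
  | empty =>
    have h1 : (mk fun n : ℕ => if n = 0 then (0 : R) else - ((0 : Multiset R).map (fun c => c ^ n)).sum) = 0 := by
      ext n; simp
    rw [h1, rec, Multiset.map_zero, Multiset.prod_zero, Polynomial.coe_one]
    exact LogD.one
  | cons c s ih =>
    rw [rec_cons, Polynomial.coe_mul, coe_one_sub]
    have h := (logD_one_sub c).mul ih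
    convert h using 1
    ext n
    rw [map_add, coeff_mk, coeff_mk, coeff_mk]
    split_ifs with h0
    · simp
    · rw [Multiset.map_cons, Multiset.sum_cons, neg_add]

theorem constantCoeff_rec (s : Multiset R) : constantCoeff (rec s : R⟦X⟧) = 1 := by
  induction s using Multiset.induction_on with
  | empty => rw [rec, Multiset.map_zero, Multiset.prod_zero, Polynomial.coe_one, map_one]
  | cons c s ih =>
    rw [rec_cons, Polynomial.coe_mul, coe_one_sub, map_mul, ih]
    simp

/-- The power sums of the products over the sub-multisets of cardinality `j`. -/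
theorem sum_powersetCard_pow (s : Multiset R) (j n : ℕ) :
    (((s.powersetCard j).map Multiset.prod).map (fun c => c ^ n)).sum = (s.map (fun c => c ^ n)).esymm j := by
  rw [Multiset.esymm, Multiset.powersetCard_map, Multiset.map_map, Multiset.map_map]
  congr 1
  refine Multiset.map_congr rfl fun I _ => ?_
  rw [Function.comp_apply, Function.comp_apply]
  rw [Multiset.prod_map_pow, Multiset.map_id']

theorem prod_one_sub_eq (s : Multiset R) :
    (s.map (fun c => 1 - c)).prod = ∑ j ∈ Finset.range (Multiset.card s + 1), (-1) ^ j * s.esymm j := by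
  have h1 := congrArg (Polynomial.eval 1) (Multiset.prod_X_sub_X_eq_sum_esymm s)
  rw [Polynomial.eval_multiset_prod, Multiset.map_map, Polynomial.eval_finsetSum] at h1
  simpa using h1

theorem mul_prod_even_eq [IsDomain R] [CharZero R] (Z : R⟦X⟧) (N : ℕ → R) (s : Multiset R)
    (hZ : LogD Z (mk fun m => if m = 0 then 0 else N m)) (hZ1 : constantCoeff Z = 1)
    (hN : ∀ m, m ≠ 0 → N m = (s.map (fun c => 1 - c ^ m)).prod) :
    Z * ∏ j ∈ (Finset.range (Multiset.card s + 1)).filter (fun j => Even j),
        (rec ((s.powersetCard j).map Multiset.prod) : R⟦X⟧) =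
      ∏ j ∈ (Finset.range (Multiset.card s + 1)).filter (fun j => Odd j),
        (rec ((s.powersetCard j).map Multiset.prod) : R⟦X⟧) := by
  have hp : ∀ S : Finset ℕ, LogD (∏ j ∈ S, (rec ((s.powersetCard j).map Multiset.prod) : R⟦X⟧))
      (∑ j ∈ S, mk fun n => if n = 0 then 0 else - (s.map (fun c => c ^ n)).esymm j) := by
    intro S
    refine LogD.prod S _ _ fun j _ => ?_
    have := logD_rec ((s.powersetCard j).map Multiset.prod)
    simpa only [sum_powersetCard_pow] using this
  have hc : ∀ S : Finset ℕ, constantCoeff (∏ j ∈ S, (rec ((s.powersetCard j).map Multiset.prod) : R⟦X⟧)) = 1 := by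
    intro S
    rw [map_prod]
    exact Finset.prod_eq_one fun j _ => constantCoeff_rec _
  refine K466.LogD.ext (hZ.mul (hp _)) ?_ ?_ (hc _)
  · convert hp ((Finset.range (Multiset.card s + 1)).filter (fun j => Odd j)) using 1
    ext n
    rw [map_add, map_sum, map_sum, coeff_mk]
    simp only [coeff_mk]
    split_ifs with h0
    · simp
    · rw [hN n h0]
      have h1 : (s.map (fun c => 1 - c ^ n)).prod =
          ∑ j ∈ Finset.range (Multiset.card s + 1), (-1) ^ j * (s.map (fun c => c ^ n)).esymm j := by
        have := prod_one_sub_eq (s.map (fun c => c ^ n))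
        rw [Multiset.map_map, Multiset.card_map] at this
        exact this
      rw [h1, ← Finset.sum_filter_add_sum_filter_not (Finset.range (Multiset.card s + 1)) (fun j => Even j)]
      have h2 : ∀ j ∈ (Finset.range (Multiset.card s + 1)).filter (fun j => Even j),
          (-1) ^ j * (s.map (fun c => c ^ n)).esymm j = (s.map (fun c => c ^ n)).esymm j := by
        intro j hj
        rw [(Finset.mem_filter.1 hj).2.neg_one_pow, one_mul]
      have h3 : ∀ j ∈ (Finset.range (Multiset.card s + 1)).filter (fun j => ¬ Even j),
          (-1) ^ j * (s.map (fun c => c ^ n)).esymm j = - (s.map (fun c => c ^ n)).esymm j := by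
        intro j hj
        rw [(Nat.not_even_iff_odd.1 (Finset.mem_filter.1 hj).2).neg_one_pow, neg_one_mul]
      rw [Finset.sum_congr rfl h2, Finset.sum_congr rfl h3, Finset.sum_neg_distrib, Finset.sum_neg_distrib,
        Finset.sum_neg_distrib]
      have h4 : (Finset.range (Multiset.card s + 1)).filter (fun j => ¬ Even j) =
          (Finset.range (Multiset.card s + 1)).filter (fun j => Odd j) := by
        ext j; simp [Nat.not_even_iff_odd]
      rw [h4]
      ring
  · rw [map_mul, hZ1, hc, one_mul]

end K523.WedgeZeta
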