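import Groth.Agent.AbVar.K523.PolyZ
import Groth.Agent.AbVar.K523.WedgeZeta
import Groth.Agent.Zeta.K466.Basic
import Mathlib.CategoryTheory.Monoidal.Cartesian.Over

/-!
# The zeta function of a scheme whose point counts are `∏ (1 - α_i^m)`
-/

set_option autoImplicit false
universe u
open AlgebraicGeometry CategoryTheory

namespace K523.ZetaAV

open Groth.Agent.MiscA

variable {k : Type u} [Field k] {X : Scheme.{u}} (f : X ⟶ Spec (CommRingCat.of k))

theorem card_hom_eq (k' : Type u) [Field k'] [Algebra k k'] :
    Nat.card (Over.mk (Spec.map (CommRingCat.ofHom (algebraMap k k'))) ⟶ Over.mk f) = SgaExt.pointCount f k' := by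
  unfold SgaExt.pointCount
  exact Nat.card_congr
    { toFun := fun g => ⟨g.left, Over.w g⟩
      invFun := fun g => Over.homMk g.1 g.2
      left_inv := fun g => Over.OverMorphism.ext rfl
      right_inv := fun g => rfl }

variable [Finite k] [LocallyOfFiniteType f] [QuasiCompact f]

theorem nPts_eq_card (k' : Type u) [Field k'] [Algebra k k'] [Finite k'] :
    Zeta.nPts f (Module.finrank k k') =
      Nat.card (Over.mk (Spec.map (CommRingCat.ofHom (algebraMap k k'))) ⟶ Over.mk f) := by
  rw [card_hom_eq, K466.Basic.pointCount_eq_nPts]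

theorem zeta_mul (P : Polynomial ℤ)
    (h : ∀ (k' : Type u) [Field k'] [Algebra k k'] [Finite k'],
      (Nat.card (Over.mk (Spec.map (CommRingCat.ofHom (algebraMap k k'))) ⟶ Over.mk f) : ℂ) =
      (((P.map (Int.castRingHom ℂ)).roots.map (fun α => 1 - α ^ Module.finrank k k')).prod)) :
    (Zeta.zetaFun f).map (algebraMap ℚ ℂ) *
          ∏ j ∈ (Finset.range (P.natDegree + 1)).filter (fun j => Even j),
            (((((P.map (Int.castRingHom ℂ)).roots.powersetCard j).map
          (fun I => (1 : Polynomial ℂ) - Polynomial.C I.prod * Polynomial.X)).prod : Polynomial ℂ) : PowerSeries ℂ) =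
        ∏ j ∈ (Finset.range (P.natDegree + 1)).filter (fun j => Odd j),
          (((((P.map (Int.castRingHom ℂ)).roots.powersetCard j).map
          (fun I => (1 : Polynomial ℂ) - Polynomial.C I.prod * Polynomial.X)).prod : Polynomial ℂ) : PowerSeries ℂ) := by
  have h1 := (K466.Basic.logD_zetaFun f).map (algebraMap ℚ ℂ)
  have h2 : PowerSeries.map (algebraMap ℚ ℂ) (PowerSeries.mk fun m => (Zeta.nPts f m : ℚ)) =
      PowerSeries.mk fun m => if m = 0 then 0 else ((Zeta.nPts f m : ℕ) : ℂ) := by
    ext m
    rw [PowerSeries.coeff_map, PowerSeries.coeff_mk, PowerSeries.coeff_mk]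
    split_ifs with h0
    · subst h0; rw [K466.Basic.nPts_zero]; simp
    · simp
  rw [h2] at h1
  have h3 : PowerSeries.constantCoeff ((Zeta.zetaFun f).map (algebraMap ℚ ℂ)) = 1 := by
    rw [← PowerSeries.coeff_zero_eq_constantCoeff_apply, PowerSeries.coeff_map,
      PowerSeries.coeff_zero_eq_constantCoeff_apply, K466.Basic.constantCoeff_zetaFun, map_one]
  have h4 := WedgeZeta.mul_prod_even_eq _ (fun m => ((Zeta.nPts f m : ℕ) : ℂ)) (P.map (Int.castRingHom ℂ)).roots h1 h3
    (fun m hm => by
      obtain ⟨k', _, _, _, hk'⟩ := PointCount.exists_extension k m hm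
      subst hk'
      rw [nPts_eq_card, h k'])
  rw [PolyZ.card_roots_map_complex] at h4
  simpa only [WedgeZeta.rec, Multiset.map_map, Function.comp_def] using h4

end K523.ZetaAV
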