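import Groth.Agent.AbVar.K523.ZetaAV

/-!
# Equality of zeta functions and of point counts
-/

set_option autoImplicit false
universe u
open AlgebraicGeometry CategoryTheory

namespace K523.ZetaEq

open Groth.Agent.MiscA

variable {k : Type u} [Field k] [Finite k] {X Y : Scheme.{u}} (f : X ⟶ Spec (CommRingCat.of k))
  (g : Y ⟶ Spec (CommRingCat.of k)) [LocallyOfFiniteType f] [QuasiCompact f] [LocallyOfFiniteType g] [QuasiCompact g]

omit [Finite k] [LocallyOfFiniteType f] [QuasiCompact f] [LocallyOfFiniteType g] [QuasiCompact g] in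
theorem zetaFun_eq_iff_nPts : Zeta.zetaFun f = Zeta.zetaFun g ↔ ∀ m, Zeta.nPts f m = Zeta.nPts g m := by
  constructor
  · intro h m
    have h1 := K466.Basic.logD_zetaFun f
    have h2 := K466.Basic.logD_zetaFun g
    rw [← h] at h2
    have hne : Zeta.zetaFun f ≠ 0 := by
      intro h0
      have := K466.Basic.constantCoeff_zetaFun f
      rw [h0, map_zero] at this
      exact zero_ne_one this
    have h3 := congrArg (PowerSeries.coeff m) (ZetaAbsCx.LogD.unique hne h1 h2)
    rw [PowerSeries.coeff_mk, PowerSeries.coeff_mk] at h3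
    exact_mod_cast h3
  · intro h
    rw [Zeta.zetaFun, Zeta.zetaFun, Zeta.logZeta, Zeta.logZeta]
    simp only [h]

/-- The zeta functions agree if and only if the numbers of points over all finite extensions agree. -/
theorem zetaFun_eq_iff : Zeta.zetaFun f = Zeta.zetaFun g ↔
    ∀ (k' : Type u) [Field k'] [Algebra k k'] [Finite k'],
      Nat.card (Over.mk (Spec.map (CommRingCat.ofHom (algebraMap k k'))) ⟶ Over.mk f) =
        Nat.card (Over.mk (Spec.map (CommRingCat.ofHom (algebraMap k k'))) ⟶ Over.mk g) := by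
  rw [zetaFun_eq_iff_nPts]
  constructor
  · intro h k' _ _ _
    rw [← ZetaAV.nPts_eq_card, ← ZetaAV.nPts_eq_card, h]
  · intro h m
    rcases Nat.eq_zero_or_pos m with rfl | hm
    · rw [K466.Basic.nPts_zero, K466.Basic.nPts_zero]
    · obtain ⟨k', _, _, _, hk'⟩ := PointCount.exists_extension k m hm.ne'
      rw [← hk', ZetaAV.nPts_eq_card, ZetaAV.nPts_eq_card, h k']

end K523.ZetaEq
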